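import Cfsg.Agent.SporOut.HeFrame
import Cfsg.Prelude.Def_KGroupFacts

/-!
The automorphism group of the Held group: inner automorphisms have index two.
-/

set_option autoImplicit false
set_option maxRecDepth 100000

namespace Cfsg.Agent.SporOut.He

open Cfsg.Agent.CosetCert

/-- Value of a packed word in the presented group. -/
noncomputable def valH (c : ℕ) : Cfsg.Spor.He := valF gl 96 c

theorem map_valF {G H : Type*} [Group G] [Group H] (f : G →* H) (σ : ℕ → G) :
    ∀ n c, f (valF σ n c) = valF (fun l => f (σ l)) n c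
  | 0, _ => map_one f
  | n + 1, c => by
    by_cases h : c ≤ 1
    · simp [valF, h]
    · simp [valF, h, map_valF f σ n]

/-- An element of the image from a packed word. -/
noncomputable def el (c : ℕ) : K := rep.rangeRestrict (valH c)

theorem el_val (c : ℕ) : (el c : Equiv.Perm (Fin 2058)) = frame.val c := map_valF rep gl 96 c

/-- A product of elements of packed words. -/
noncomputable def elL (ws : List ℕ) : K := (ws.map el).prod

theorem elL_apply : ∀ ws : List ℕ, okL ws = true → ∀ i : Fin 2058,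
    ((elL ws : Equiv.Perm (Fin 2058)) i : ℕ) = runL ws i
  | [], _, i => rfl
  | c :: cs, h, i => by
    simp only [okL, List.all_cons, Bool.and_eq_true] at h
    have ih := elL_apply cs h.2 i
    simp only [elL, List.map_cons, List.prod_cons, Subgroup.coe_mul, Equiv.Perm.mul_apply] at ih ⊢
    rw [el_val, Frame.val_apply frame_valid h.1, ih]
    rfl

theorem elL_cons (c : ℕ) (cs : List ℕ) : elL (c :: cs) = el c * elL cs := List.prod_cons

theorem elL_singleton (c : ℕ) : elL [c] = el c := by simp [elL]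

theorem elL_pair (a b : ℕ) : elL [a, b] = el a * el b := by simp [elL]

theorem elL_replicate (n c : ℕ) : elL (List.replicate n c) = el c ^ n := by simp [elL]

theorem eq_of_sameW {ws vs : List ℕ} (h : sameW ws vs = true) : elL ws = elL vs := by
  simp only [sameW, Bool.and_eq_true, List.all_cons, List.all_nil, Bool.and_true] at h
  obtain ⟨hw, hv, h0, h1, h2, h3⟩ := h
  refine Subtype.ext (chainA_valid.ext frame_valid (elL ws).2 (elL vs).2 ?_ ?_ ?_ ?_) <;>
    · apply Fin.ext
      rw [elL_apply _ hw, elL_apply _ hv]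
      apply Nat.eq_of_beq_eq_true
      assumption

theorem ne_one_of_movesW {ws : List ℕ} (h : movesW ws = true) : elL ws ≠ 1 := by
  intro e
  simp only [movesW, Bool.and_eq_true, List.any_eq_true] at h
  obtain ⟨hw, p, hp, hne⟩ := h
  have hpN : p < 2058 := by
    have : ∀ q ∈ [chainA.b0, chainA.b1, chainA.b2, chainA.b3], q < 2058 := by decide +kernel
    exact this p hp
  have := elL_apply ws hw ⟨p, hpN⟩
  rw [e] at this
  simp only [Subgroup.coe_one, Equiv.Perm.one_apply] at this
  rw [← this, Bool.not_eq_true'] at hne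
  exact Bool.noConfusion ((Nat.beq_refl _).symm.trans hne)

/-- The element of order 17. -/
noncomputable def X : K := el codeX

/-- The element of order 8. -/
noncomputable def H : K := el codeH

/-- The elements sending the fixed point of `X` elsewhere. -/
noncomputable def Zc (k : ℕ) : K := el (wordsZ.getD k 1)

/-- The other class of order 17. -/
noncomputable def X3 : K := el codeX3

theorem X_pow : X ^ 17 = 1 ∧ X ≠ 1 := by
  obtain ⟨h17, hne, -⟩ := element_facts
  refine ⟨?_, ?_⟩
  · have := eq_of_sameW h17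
    rwa [elL_replicate] at this
  · have := ne_one_of_movesW hne
    rwa [elL_singleton] at this

theorem X_order : orderOf X = 17 := by
  haveI : Fact (Nat.Prime 17) := ⟨by norm_num⟩
  exact orderOf_eq_prime X_pow.1 X_pow.2

theorem el_powX (i : Fin 17) : el (powX.getD i.val 1) = X ^ (i : ℕ) := by
  have := eq_of_sameW (powX_table i)
  rwa [elL_singleton, elL_replicate] at this

theorem inv_facts : el codeXI = X⁻¹ ∧ el codeHI = H⁻¹ := by
  obtain ⟨-, -, hx, hh, -⟩ := element_facts
  have a := eq_of_sameW hx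
  have b := eq_of_sameW hh
  rw [elL_pair] at a b
  exact ⟨eq_inv_of_mul_eq_one_left a, eq_inv_of_mul_eq_one_left b⟩

theorem conj_facts : el codeX2 = X * X ∧ H * X = X * X * H ∧ el codeH3 = H * H * H ∧
    Zc idxZ * H = H * H * H * Zc idxZ := by
  obtain ⟨-, -, -, -, a, b, c, d⟩ := element_facts
  have a := eq_of_sameW a
  have b := eq_of_sameW b
  have c := eq_of_sameW c
  have d := eq_of_sameW d
  simp only [elL, List.map_cons, List.map_nil, List.prod_cons, List.prod_nil, mul_one] at a b c d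
  refine ⟨a, ?_, c.trans (mul_assoc _ _ _).symm, ?_⟩
  · show el codeH * el codeX = el codeX * el codeX * el codeH
    rw [← a]; exact b
  · show el (wordsZ.getD idxZ 1) * el codeH = el codeH * el codeH * el codeH * el (wordsZ.getD idxZ 1)
    rw [← mul_assoc] at c
    rw [c] at d
    exact d

/-- Evaluation of a word in the five letters `X, X⁻¹, H, H⁻¹, z`. -/
def ev5 {G : Type*} [Group G] (x h z : G) (r : List ℕ) : G :=
  ((r.map fun i => [x, x⁻¹, h, h⁻¹, z].getD i 1).reverse).prod

theorem map_ev5 {G G' : Type*} [Group G] [Group G'] (f : G →* G') (x h z : G) (r : List ℕ) :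
    f (ev5 x h z r) = ev5 (f x) (f h) (f z) r := by
  rw [ev5, ev5, map_list_prod, ← List.map_reverse, ← List.map_reverse, List.map_map]
  congr 1
  refine List.map_congr_left fun i _ => ?_
  rcases i with _ | _ | _ | _ | _ | i <;> simp

theorem elL_substW (k : ℕ) (r : List ℕ) (hr : r.all (fun i => Nat.blt i 5) = true) :
    elL (substW k r) = ev5 X H (Zc k) r := by
  rw [elL, substW, ev5, ← List.map_reverse, ← List.map_reverse, List.map_map]
  congr 1
  refine List.map_congr_left fun i hi => ?_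
  have hi5 : i < 5 := Nat.le_of_ble_eq_true (List.all_eq_true.1 hr i (List.mem_reverse.1 hi))
  obtain ⟨e1, e2⟩ := inv_facts
  interval_cases i
  · rfl
  · exact e1
  · rfl
  · exact e2
  · rfl

theorem el_letter (l : ℕ) (h1 : 1 ≤ l) (h2 : l ≤ 7) : el (16 + l) = rep.rangeRestrict (gl l) := by
  have e : valH (16 + l) = gl l := by
    have hd : (16 + l) / 16 = 1 := by omega
    have hm : (16 + l) % 16 = l := by omega
    simp only [valH, valF, hd, hm, if_neg (show ¬ 16 + l ≤ 1 by omega), le_refl, if_true, one_mul]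
  rw [el, e]

theorem gen_eq (l : Fin 7) :
    rep.rangeRestrict (gl (l.val + 1)) = ev5 X H (Zc idxZ) (genWords.getD l.val []) := by
  obtain ⟨h1, h2⟩ := gen_table l
  have := eq_of_sameW h1
  rw [elL_singleton, elL_substW _ _ h2] at this
  rw [← el_letter _ (by omega) (by omega), ← this]
  congr 1
  omega

theorem code_range (a) : 1 ≤ HeldSp.data.code a ∧ HeldSp.data.code a ≤ 7 := by
  have := HeldSp.valid.allCode a
  rw [cols_length] at this
  exact ⟨this.1, this.2.1⟩

theorem gl_code (a) : gl (HeldSp.data.code a) = PresentedGroup.of a := by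
  obtain ⟨c1, c2, c3⟩ := HeldSp.valid.allCode a
  obtain ⟨m, hm⟩ : ∃ m, HeldSp.data.code a = m + 1 := ⟨HeldSp.data.code a - 1, by omega⟩
  rw [hm] at c3 ⊢
  rw [Nat.add_sub_cancel] at c3
  simp only [gl, PresData.act, c3, PresData.lval, cond_true]

/-- An automorphism is determined by the images of the three elements. -/
theorem aut_ext {φ ψ : MulAut K} (hx : φ X = ψ X) (hh : φ H = ψ H) (hz : φ (Zc idxZ) = ψ (Zc idxZ)) :
    φ = ψ := by
  have key : φ.toMonoidHom.comp rep.rangeRestrict = ψ.toMonoidHom.comp rep.rangeRestrict := by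
    refine PresentedGroup.ext fun a => ?_
    obtain ⟨c1, c2⟩ := code_range a
    have e := gen_eq ⟨HeldSp.data.code a - 1, by omega⟩
    simp only [show HeldSp.data.code a - 1 + 1 = HeldSp.data.code a by omega, gl_code] at e
    simp only [MonoidHom.comp_apply]
    rw [e, map_ev5 φ.toMonoidHom, map_ev5 ψ.toMonoidHom]
    simp only [MulEquiv.coe_toMonoidHom, hx, hh, hz]
  apply MulEquiv.ext
  intro y
  obtain ⟨g, rfl⟩ := rep.rangeRestrict_surjective y
  exact DFunLike.congr_fun key g

theorem eq_el_of_images {C : Chain} (hC : C.Valid frame) {g : K} {c : ℕ} {a : ℕ × ℕ × ℕ × ℕ}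
    (hc : frame.ok c = true)
    (ha : a = (frame.run c C.b0, frame.run c C.b1, frame.run c C.b2, frame.run c C.b3))
    (h0 : (g.1 ⟨C.b0, hC.lt0⟩ : ℕ) = a.1) (h1 : (g.1 ⟨C.b1, hC.lt1⟩ : ℕ) = a.2.1)
    (h2 : (g.1 ⟨C.b2, hC.lt2⟩ : ℕ) = a.2.2.1) (h3 : (g.1 ⟨C.b3, hC.lt3⟩ : ℕ) = a.2.2.2) :
    g = el c := by
  subst ha
  refine Subtype.ext (hC.ext frame_valid g.2 (el c).2 ?_ ?_ ?_ ?_) <;> apply Fin.ext <;>
    rw [el_val, Frame.val_apply frame_valid hc] <;> assumption

/-- The solutions of `g X = X² g`. -/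
theorem solve_H {g : K} (hg : g * X = X * X * g) :
    ∃ j : Fin 17, g = X ^ (j : ℕ) * H * (X ^ (j : ℕ))⁻¹ := by
  have hgs : g.1 * frame.val codeX = frame.val codeX2 * g.1 := by
    rw [← el_val, ← el_val, conj_facts.1]
    exact congrArg Subtype.val hg
  obtain ⟨a, ha, e0, e1, e2, e3⟩ := search_sound chainA_valid frame_valid (by norm_num)
    (by decide +kernel) (by decide +kernel) (by decide +kernel) (by decide +kernel)
    (search_of_allB searchX_ok) g.2 hgs
  obtain ⟨j, hj, rfl⟩ := List.getElem_of_mem ha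
  have hj17 : j < 17 := candH_length.1 ▸ hj
  refine ⟨⟨j, hj17⟩, ?_⟩
  obtain ⟨hs, hc⟩ := conjH_table ⟨j, hj17⟩
  simp only at hs hc
  rw [List.getD_eq_getElem _ _ hj] at hc
  have hgel := eq_el_of_images chainA_valid (conjH_ok ⟨j, hj17⟩) hc e0 e1 e2 e3
  have h2 := eq_of_sameW hs
  rw [elL_pair, elL_pair] at h2
  have hp := el_powX ⟨j, hj17⟩
  simp only at hp
  rw [hp, show el codeH = H from rfl] at h2
  rw [hgel, eq_mul_inv_iff_mul_eq]
  exact h2

/-- The solutions of `g H = H³ g`. -/
theorem solve_Z {g : K} (hg : g * H = H * H * H * g) : ∃ k : Fin 16, g = Zc k.val := by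
  have hgs : g.1 * frame.val codeH = frame.val codeH3 * g.1 := by
    rw [← el_val, ← el_val, conj_facts.2.2.1]
    exact congrArg Subtype.val hg
  obtain ⟨a, ha, e0, e1, e2, e3⟩ := search_sound chainB_valid frame_valid (by norm_num)
    (by decide +kernel) (by decide +kernel) (by decide +kernel) (by decide +kernel)
    (search_of_allB searchZ_ok) g.2 hgs
  obtain ⟨k, hk, rfl⟩ := List.getElem_of_mem ha
  have hk16 : k < 16 := candH_length.2 ▸ hk
  refine ⟨⟨k, hk16⟩, ?_⟩
  obtain ⟨ho, hc⟩ := wordsZ_table ⟨k, hk16⟩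
  simp only at ho hc
  rw [List.getD_eq_getElem _ _ hk] at hc
  exact eq_el_of_images chainB_valid ho hc e0 e1 e2 e3

/-- `X` is not conjugate to `X3`. -/
theorem not_conj_X3 (g : K) : g * X ≠ X3 * g := by
  intro hg
  have hgs : g.1 * frame.val codeX = frame.val codeX3 * g.1 := by
    rw [← el_val, ← el_val]
    exact congrArg Subtype.val hg
  obtain ⟨a, ha, -⟩ := search_sound chainA_valid frame_valid (by norm_num)
    (by decide +kernel) (by decide +kernel) (by decide +kernel) (by decide +kernel)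
    (search_of_allB searchX3_ok) g.2 hgs
  simp at ha

/-- An automorphism fixing `X` is inner. -/
theorem inner_of_fix {ψ : MulAut K} (hx : ψ X = X) : ∃ g : K, ψ = MulAut.conj g := by
  obtain ⟨-, hHX, -, hZH⟩ := conj_facts
  obtain ⟨j, hj⟩ := solve_H (g := ψ H) (by rw [← hx, ← map_mul, hHX, map_mul, map_mul])
  set P : K := X ^ (j : ℕ)
  set θ : MulAut K := MulAut.conj P⁻¹ * ψ with hθ
  have tx : θ X = X := by
    rw [hθ, MulAut.mul_apply, hx, MulAut.conj_apply, inv_inv,
      show P⁻¹ * X = X * P⁻¹ from ((Commute.refl X).pow_left _).inv_left.eq, mul_assoc, inv_mul_cancel,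
      mul_one]
  have th : θ H = H := by
    rw [hθ, MulAut.mul_apply, hj, MulAut.conj_apply]
    group
  obtain ⟨k, hk⟩ := solve_Z (g := θ (Zc idxZ)) (by
    conv_lhs => rw [← th, ← map_mul, hZH]
    rw [map_mul, map_mul, map_mul, th])
  have hidx : k.val = idxZ := by
    rcases rel_table k with h | ⟨h1, h2, h3⟩
    · exact h
    · exfalso
      apply ne_one_of_movesW h2
      rw [elL_substW _ _ h3, ← hk]
      have e1 := eq_of_sameW h1
      rw [elL_substW _ _ h3] at e1
      calc ev5 X H (θ (Zc idxZ)) _ = ev5 (θ X) (θ H) (θ (Zc idxZ)) _ := by rw [tx, th]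
        _ = θ (ev5 X H (Zc idxZ) _) := (map_ev5 θ.toMonoidHom _ _ _ _).symm
        _ = 1 := by rw [e1]; exact map_one θ
  rw [hidx] at hk
  have h1 : θ = 1 := aut_ext (by rw [tx]; rfl) (by rw [th]; rfl) (by rw [hk]; rfl)
  refine ⟨P, ?_⟩
  rw [hθ, map_inv, inv_mul_eq_one] at h1
  exact h1.symm

theorem exists_conj_pow {i : ℕ} (hi : ¬ 17 ∣ i) :
    ∃ g : K, g * X ^ i * g⁻¹ = X ∨ g * X ^ i * g⁻¹ = X3 := by
  rw [pow_mod_orderOf X i |>.symm, X_order]
  have h0 : i % 17 ≠ 0 := fun h => hi (Nat.dvd_of_mod_eq_zero h)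
  obtain ⟨j, hj⟩ : ∃ j : Fin 16, i % 17 = j.val + 1 := ⟨⟨i % 17 - 1, by omega⟩, by simp only; omega⟩
  have hp := el_powX ⟨j.val + 1, by omega⟩
  simp only at hp
  refine ⟨el (toClass.getD j.val (false, 1)).2, ?_⟩
  rw [hj]
  rcases toClass_table j with ⟨-, h⟩ | ⟨-, h⟩
  · right
    have e := eq_of_sameW h
    rw [elL_pair, elL_pair, hp] at e
    rw [e]
    exact mul_inv_cancel_right _ _
  · left
    have e := eq_of_sameW h
    rw [elL_pair, elL_pair, hp] at e
    rw [e]
    exact mul_inv_cancel_right _ _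

/-- Every element of order 17 is conjugate to `X` or to `X3`. -/
theorem exists_conj_seventeen {y : K} (hy : orderOf y = 17) :
    ∃ g : K, g * y * g⁻¹ = X ∨ g * y * g⁻¹ = X3 := by
  haveI : Fact (Nat.Prime 17) := ⟨by norm_num⟩
  have hfinite : Finite K := Nat.finite_of_card_ne_zero (by rw [card_K]; norm_num)
  have hf : (Nat.card K).factorization 17 = 1 := by
    rw [card_K, show (4030387200 : ℕ) = 17 * 237081600 by norm_num,
      Nat.factorization_mul (by norm_num) (by norm_num), Finsupp.add_apply,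
      (by norm_num : Nat.Prime 17).factorization_self,
      Nat.factorization_eq_zero_of_not_dvd (by norm_num : ¬ 17 ∣ 237081600)]
  have hc : ∀ u : K, orderOf u = 17 →
      Nat.card (Subgroup.zpowers u) = 17 ^ (Nat.card K).factorization 17 := fun u hu => by
    rw [Nat.card_zpowers, hu, hf, pow_one]
  obtain ⟨g, hg⟩ := MulAction.exists_smul_eq K (Sylow.ofCard _ (hc y hy))
    (Sylow.ofCard _ (hc X X_order))
  have hm : g * y * g⁻¹ ∈ Subgroup.zpowers X := by
    have e : ((g • Sylow.ofCard _ (hc y hy) : Sylow 17 K) : Subgroup K) = Subgroup.zpowers X := by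
      rw [hg]; rfl
    rw [← e, Sylow.coe_subgroup_smul]
    exact ⟨y, Subgroup.mem_zpowers y, rfl⟩
  obtain ⟨i, hi⟩ := (mem_powers_iff_mem_zpowers.2 hm : g * y * g⁻¹ ∈ Submonoid.powers X)
  have hi17 : ¬ 17 ∣ i := by
    intro hd
    have h1 : g * y * g⁻¹ = 1 := by
      rw [← hi]
      exact orderOf_dvd_iff_pow_eq_one.1 (X_order ▸ hd)
    rw [conj_eq_one_iff] at h1
    rw [h1, orderOf_one] at hy
    norm_num at hy
  obtain ⟨h, hh⟩ := exists_conj_pow hi17
  refine ⟨h * g, ?_⟩
  have e : h * g * y * (h * g)⁻¹ = h * X ^ i * h⁻¹ := by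
    rw [show X ^ i = g * y * g⁻¹ from hi]
    group
  rwa [e]

theorem sig_spec (x : Fin 2058) : sigT.get 16 x < 2058 ∧ sigInvT.get 16 x < 2058 ∧
    sigInvT.get 16 (sigT.get 16 x) = x ∧ sigT.get 16 (sigInvT.get 16 x) = x := by
  have h := allB_spec_zero sig_bij (by norm_num : 2058 ≤ 2 ^ 12) x.2
  simp only [Bool.or_eq_true, Bool.and_eq_true] at h
  rcases h with h | ⟨a, b, c, d⟩
  · exact absurd (Nat.le_of_ble_eq_true h) (not_le.2 x.2)
  · exact ⟨Nat.le_of_ble_eq_true a, Nat.le_of_ble_eq_true b, Nat.eq_of_beq_eq_true c,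
      Nat.eq_of_beq_eq_true d⟩

/-- The permutation inducing the outer automorphism. -/
noncomputable def sigPerm : Equiv.Perm (Fin 2058) where
  toFun x := ⟨sigT.get 16 x, (sig_spec x).1⟩
  invFun x := ⟨sigInvT.get 16 x, (sig_spec x).2.1⟩
  left_inv x := Fin.ext (sig_spec x).2.2.1
  right_inv x := Fin.ext (sig_spec x).2.2.2

theorem sigPerm_gen (a) : sigPerm * rep (PresentedGroup.of a) * sigPerm⁻¹ =
    frame.val (sigWords.getD (HeldSp.data.code a - 1) 1) := by
  obtain ⟨c1, c2⟩ := code_range a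
  have hl : HeldSp.data.code a - 1 < 7 := by omega
  rw [mul_inv_eq_iff_eq_mul]
  refine Equiv.ext fun x => Fin.ext ?_
  rw [Equiv.Perm.mul_apply, Equiv.Perm.mul_apply, Frame.val_apply frame_valid (sig_words_ok ⟨_, hl⟩),
    ← gl_code]
  show sigT.get 16 (rep (gl (HeldSp.data.code a)) x : ℕ) = frame.run _ (sigT.get 16 x)
  rw [rep_gl c1 c2]
  have h := allB_spec_zero (sig_conj ⟨_, hl⟩) (by norm_num : 2058 ≤ 2 ^ 12) x.2
  rw [Bool.or_eq_true] at h
  rcases h with h | h
  · exact absurd (Nat.le_of_ble_eq_true h) (not_le.2 x.2)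
  · simp only [show HeldSp.data.code a - 1 + 1 = HeldSp.data.code a by omega] at h
    exact Nat.eq_of_beq_eq_true h

theorem sigPerm_conj_mem {g : Equiv.Perm (Fin 2058)} (hg : g ∈ K) :
    sigPerm * g * sigPerm⁻¹ ∈ K := by
  obtain ⟨x, rfl⟩ := hg
  have hle : (⊤ : Subgroup Cfsg.Spor.He) ≤
      (K.comap (MulAut.conj sigPerm).toMonoidHom).comap rep := by
    rw [← PresentedGroup.closure_range_of, Subgroup.closure_le]
    rintro _ ⟨a, rfl⟩
    show sigPerm * rep (PresentedGroup.of a) * sigPerm⁻¹ ∈ K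
    rw [sigPerm_gen]
    exact Frame.val_mem frame_valid
      (sig_words_ok ⟨HeldSp.data.code a - 1, by have := code_range a; omega⟩)
  exact hle (Subgroup.mem_top x)

/-- The outer automorphism as a homomorphism. -/
noncomputable def outHom : K →* K where
  toFun g := ⟨sigPerm * g.1 * sigPerm⁻¹, sigPerm_conj_mem g.2⟩
  map_one' := Subtype.ext (by simp)
  map_mul' g h := Subtype.ext (by simp [mul_assoc])

/-- The outer automorphism. -/
noncomputable def outAut : MulAut K :=
  have : Finite K := Nat.finite_of_card_ne_zero (by rw [card_K]; norm_num)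
  MulEquiv.ofBijective outHom (Finite.injective_iff_bijective.1 fun _ _ h =>
    Subtype.ext (mul_left_cancel (mul_right_cancel (congrArg Subtype.val h))))

theorem outAut_X : outAut X = X3 := by
  apply Subtype.ext
  have hX : frame.ok codeX = true := by decide +kernel
  have hX3 : frame.ok codeX3 = true := by decide +kernel
  have key : ∀ (p : ℕ) (hp : p < 2058), p ∈ [chainA.b0, chainA.b1, chainA.b2, chainA.b3] →
      (outAut X).1 ⟨p, hp⟩ = X3.1 ⟨p, hp⟩ := fun p hp hm => by
    apply Fin.ext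
    show sigT.get 16 (X.1 ⟨sigInvT.get 16 p, _⟩ : ℕ) = (X3.1 ⟨p, hp⟩ : ℕ)
    rw [X, X3, el_val, el_val, Frame.val_apply frame_valid hX, Frame.val_apply frame_valid hX3]
    exact Nat.eq_of_beq_eq_true (List.all_eq_true.1 sig_X p hm)
  exact chainA_valid.ext frame_valid (outAut X).2 X3.2 (key _ _ (by simp)) (key _ _ (by simp))
    (key _ _ (by simp)) (key _ _ (by simp))

theorem outAut_not_inner (g : K) : MulAut.conj g ≠ outAut := by
  intro h
  apply not_conj_X3 g
  rw [← outAut_X, ← h, MulAut.conj_apply, inv_mul_cancel_right]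

theorem aut_cases (φ : MulAut K) : ∃ g : K, φ = MulAut.conj g ∨ φ = MulAut.conj g * outAut := by
  obtain ⟨c, hc⟩ := exists_conj_seventeen (y := φ X) (by rw [φ.orderOf_eq, X_order])
  rcases hc with hc | hc
  · obtain ⟨g, hg⟩ := inner_of_fix (ψ := MulAut.conj c * φ) hc
    refine ⟨c⁻¹ * g, Or.inl ?_⟩
    rw [map_mul, ← hg, map_inv, inv_mul_cancel_left]
  · obtain ⟨g, hg⟩ := inner_of_fix (ψ := outAut⁻¹ * (MulAut.conj c * φ)) (by
      apply outAut.injective
      show outAut (outAut⁻¹ ((MulAut.conj c * φ) X)) = outAut X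
      rw [MulAut.apply_inv_self, outAut_X]
      exact hc)
    refine ⟨c⁻¹ * outAut g, Or.inr ?_⟩
    rw [inv_mul_eq_iff_eq_mul] at hg
    have e : MulAut.conj (outAut g) * outAut = outAut * MulAut.conj g := by
      ext y
      simp
    rw [map_mul, mul_assoc, e, ← hg, map_inv, inv_mul_cancel_left]

theorem card_out_K : Nat.card (Cfsg.Out K) = 2 := by
  rw [Nat.card_eq_two_iff]
  refine ⟨1, QuotientGroup.mk' _ outAut, ?_, ?_⟩
  · intro h
    obtain ⟨g, hg⟩ := (QuotientGroup.eq_one_iff outAut).1 h.symm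
    exact outAut_not_inner g hg
  · refine Set.eq_univ_of_forall fun q => ?_
    obtain ⟨φ, rfl⟩ := QuotientGroup.mk'_surjective _ q
    obtain ⟨g, rfl | rfl⟩ := aut_cases φ
    · exact Or.inl ((QuotientGroup.eq_one_iff _).2 ⟨g, rfl⟩)
    · refine Or.inr ?_
      rw [Set.mem_singleton_iff, map_mul]
      rw [show QuotientGroup.mk' (Cfsg.Inn K) (MulAut.conj g) = 1 from
        (QuotientGroup.eq_one_iff _).2 ⟨g, rfl⟩, one_mul]

theorem card_out_He : Nat.card (Cfsg.Out Cfsg.Spor.He) = 2 := by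
  rw [← card_out_K]
  let e : Cfsg.Spor.He ≃* K := MonoidHom.ofInjective rep_injective
  show (Cfsg.Inn Cfsg.Spor.He).index = (Cfsg.Inn K).index
  rw [← Subgroup.index_map_equiv (Cfsg.Inn Cfsg.Spor.He) (MulAut.congr e)]
  congr 1
  ext φ
  constructor
  · rintro ⟨_, ⟨g, rfl⟩, rfl⟩
    refine ⟨e g, MulEquiv.ext fun y => ?_⟩
    simp [MulAut.congr]
  · rintro ⟨g, rfl⟩
    refine ⟨MulAut.conj (e.symm g), ⟨_, rfl⟩, MulEquiv.ext fun y => ?_⟩
    simp [MulAut.congr]

end Cfsg.Agent.SporOut.He
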