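import Cfsg.Agent.SporOut.RuFrame

/-!
A lower bound for the order of the group generated by the seven permutations.
-/

set_option autoImplicit false
set_option maxRecDepth 100000

namespace Cfsg.Agent.SporOut.Ru

open Cfsg.Agent.CosetCert

theorem elt_mem_and_injective :
    (∀ r, chainA.elt frame r ∈ K) ∧ Function.Injective (chainA.elt frame) := by
  have lt0 : chainA.b0 < 4060 := by decide +kernel
  have lt1 : chainA.b1 < 4060 := by decide +kernel
  have lt2 : chainA.b2 < 4060 := by decide +kernel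
  have lt3 : chainA.b3 < 4060 := by decide +kernel
  have hF := frame_valid
  have L0 : ∀ y < 4060, levOK frame chainA.t0 chainA.b0 [] y = true := of_allB levA0_ok
  have L1 : ∀ y < 4060, levOK frame chainA.t1 chainA.b1 [chainA.b0] y = true := of_allB levA1_ok
  have L2 : ∀ y < 4060, levOK frame chainA.t2 chainA.b2 [chainA.b0, chainA.b1] y = true :=
    of_allB levA2_ok
  have L3 : ∀ y < 4060, levOK frame chainA.t3 chainA.b3
      [chainA.b0, chainA.b1, chainA.b2] y = true := of_allB levA3_ok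
  refine ⟨fun r => K.mul_mem (Frame.val_mem hF (levOK_spec hF (L0 _ r.1.1.2) r.1.2 lt0).1)
      (K.mul_mem (Frame.val_mem hF (levOK_spec hF (L1 _ r.2.1.1.2) r.2.1.2 lt1).1)
        (K.mul_mem (Frame.val_mem hF (levOK_spec hF (L2 _ r.2.2.1.1.2) r.2.2.1.2 lt2).1)
          (Frame.val_mem hF (levOK_spec hF (L3 _ r.2.2.2.1.2) r.2.2.2.2 lt3).1))), ?_⟩
  have img : ∀ r, chainA.elt frame r ⟨chainA.b0, lt0⟩ = r.1.1 ∧
      chainA.elt frame r ⟨chainA.b1, lt1⟩ = frame.val (chainA.t0.get 160 r.1.1) r.2.1.1 ∧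
      chainA.elt frame r ⟨chainA.b2, lt2⟩ =
        frame.val (chainA.t0.get 160 r.1.1) (frame.val (chainA.t1.get 160 r.2.1.1) r.2.2.1.1) ∧
      chainA.elt frame r ⟨chainA.b3, lt3⟩ = frame.val (chainA.t0.get 160 r.1.1)
        (frame.val (chainA.t1.get 160 r.2.1.1)
          (frame.val (chainA.t2.get 160 r.2.2.1.1) r.2.2.2.1)) := by
    rintro ⟨⟨y0, h0⟩, ⟨y1, h1⟩, ⟨y2, h2⟩, ⟨y3, h3⟩⟩
    obtain ⟨-, e0, -⟩ := levOK_spec hF (L0 _ y0.2) h0 lt0
    obtain ⟨-, e1, f1⟩ := levOK_spec hF (L1 _ y1.2) h1 lt1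
    obtain ⟨-, e2, f2⟩ := levOK_spec hF (L2 _ y2.2) h2 lt2
    obtain ⟨-, e3, f3⟩ := levOK_spec hF (L3 _ y3.2) h3 lt3
    have E0 := Fin.ext (a := frame.val _ _) e0
    have E1 := Fin.ext (a := frame.val _ _) e1
    have E2 := Fin.ext (a := frame.val _ _) e2
    have E3 := Fin.ext (a := frame.val _ _) e3
    refine ⟨?_, ?_, ?_, ?_⟩ <;> simp only [Chain.elt, Equiv.Perm.mul_apply]
    · rw [f3 _ (by simp) lt0, f2 _ (by simp) lt0, f1 _ (by simp) lt0, E0]
    · rw [f3 _ (by simp) lt1, f2 _ (by simp) lt1, E1]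
    · rw [f3 _ (by simp) lt2, E2]
    · rw [E3]
  intro r r' h
  obtain ⟨a0, a1, a2, a3⟩ := img r
  obtain ⟨b0, b1, b2, b3⟩ := img r'
  rw [h] at a0 a1 a2 a3
  rw [b0] at a0
  rw [b1] at a1
  rw [b2] at a2
  rw [b3] at a3
  obtain ⟨r0, r1, r2, r3⟩ := r
  obtain ⟨s0, s1, s2, s3⟩ := r'
  simp only at a0 a1 a2 a3
  obtain rfl := (Subtype.ext a0 : s0 = r0)
  obtain rfl := (Subtype.ext ((frame.val _).injective a1) : s1 = r1)
  obtain rfl := (Subtype.ext ((frame.val _).injective ((frame.val _).injective a2)) : s2 = r2)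
  obtain rfl := (Subtype.ext ((frame.val _).injective ((frame.val _).injective
    ((frame.val _).injective a3))) : s3 = r3)
  rfl

/-- The group has at least the order of the Rudvalis group. -/
theorem K_lower : 145926144000 ≤ Nat.card K := by
  obtain ⟨hmem, hinj⟩ := elt_mem_and_injective
  refine le_trans (le_of_eq ?_) (Nat.card_le_card_of_injective
    (fun r => (⟨_, hmem r⟩ : K)) fun r r' h => hinj (congrArg Subtype.val h))
  rw [Nat.card_prod, Nat.card_prod, Nat.card_prod, card_lev, card_lev, card_lev, card_lev]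
  exact sizesA.symm

end Cfsg.Agent.SporOut.Ru
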