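import Cfsg.Agent.RuModel.Complete
import Cfsg.Agent.RuModel.Points2
import Cfsg.Agent.SporOut.RuLower

/-!
The action of the automorphisms of the Rudvalis lattice on the 4060 lines of minimal vectors, and the
identification of the Rudvalis group with the group generated by the seven permutations.
-/

set_option autoImplicit false
set_option maxRecDepth 100000

namespace Cfsg.Agent.SporOut.RuLine

open Cfsg.Spor Cfsg.Agent.RuLat Cfsg.Agent.CosetCert

theorem fourRu_dot (f : fourRu) (x : ruLattice) :
    dot (((f : Equiv.Perm ruLattice) x : ruLattice) : RuVec) ((f : Equiv.Perm ruLattice) x : RuVec) =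
      dot (x : RuVec) (x : RuVec) := by
  have h := f.2.2.2 x
  rwa [ruNorm_eq, ruNorm_eq] at h

theorem exists_pt (f : fourRu) (k : Fin 16240) :
    ∃ l : Fin 16240, (f : Equiv.Perm ruLattice) (RuModel.ptL k) = RuModel.ptL l := by
  obtain ⟨l, hl, e⟩ := RuModel.complete ((f : Equiv.Perm ruLattice) (RuModel.ptL k)).2
    ((fourRu_dot f _).trans (RuModel.ptV_norm k.isLt))
  exact ⟨⟨l, hl⟩, Subtype.ext e⟩

/-- The image of a point. -/
noncomputable def ptMap (f : fourRu) (k : Fin 16240) : Fin 16240 := (exists_pt f k).choose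

theorem ptMap_spec (f : fourRu) (k : Fin 16240) :
    (f : Equiv.Perm ruLattice) (RuModel.ptL k) = RuModel.ptL (ptMap f k) := (exists_pt f k).choose_spec

theorem ptMap_eq {f : fourRu} {k l : Fin 16240}
    (h : (f : Equiv.Perm ruLattice) (RuModel.ptL k) = RuModel.ptL l) : ptMap f k = l :=
  Fin.ext (RuModel.ptV_inj (ptMap f k).isLt l.isLt
    (congrArg Subtype.val ((ptMap_spec f k).symm.trans h)))

theorem ptMap_one (k : Fin 16240) : ptMap 1 k = k := ptMap_eq rfl

theorem ptMap_mul (f g : fourRu) (k : Fin 16240) : ptMap (f * g) k = ptMap f (ptMap g k) := by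
  refine ptMap_eq ?_
  show (f : Equiv.Perm ruLattice) ((g : Equiv.Perm ruLattice) (RuModel.ptL k)) = _
  rw [ptMap_spec g, ptMap_spec f]

theorem rot_ptL (k : Fin 16240) (v : ℕ) :
    RuModel.ptL ⟨RuModel.rot k v, RuModel.rot_lt k.isLt v⟩ = ruI^[v] (RuModel.ptL k) := by
  refine Subtype.ext ?_
  show RuModel.ptV (RuModel.rot k v) = _
  rw [RuModel.ptV_rot k.isLt]
  induction v with
  | zero => rfl
  | succ v ih =>
    rw [Function.iterate_succ_apply', Function.iterate_succ_apply', ih]
    exact (gI_smul _).symm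

theorem ptMap_rot (f : fourRu) (k : Fin 16240) (v : ℕ) :
    ptMap f ⟨RuModel.rot k v, RuModel.rot_lt k.isLt v⟩ =
      ⟨RuModel.rot (ptMap f k) v, RuModel.rot_lt (ptMap f k).isLt v⟩ := by
  refine ptMap_eq ?_
  rw [rot_ptL, rot_ptL, ← ptMap_spec]
  induction v with
  | zero => rfl
  | succ v ih => rw [Function.iterate_succ_apply', Function.iterate_succ_apply', f.2.2.1, ih]

/-- The representative of a line. -/
def rep (i : Fin 4060) : Fin 16240 := ⟨4 * i.val, by omega⟩

/-- The line of a point. -/
def line (k : Fin 16240) : Fin 4060 := ⟨k.val / 4, by omega⟩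

theorem line_rep (i : Fin 4060) : line (rep i) = i := Fin.ext (by simp [line, rep])

theorem line_ptMap (f : fourRu) (k : Fin 16240) : line (ptMap f k) = line (ptMap f (rep (line k))) := by
  have e : k = ⟨RuModel.rot (rep (line k)) (k.val % 4), RuModel.rot_lt (rep (line k)).isLt _⟩ :=
    Fin.ext (by simp only [RuModel.rot, rep, line]; omega)
  conv_lhs => rw [e]
  rw [ptMap_rot]
  exact Fin.ext (by simp only [RuModel.rot, line]; omega)

/-- The image of a line. -/
noncomputable def lineMap (f : fourRu) (i : Fin 4060) : Fin 4060 := line (ptMap f (rep i))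

theorem lineMap_mul (f g : fourRu) (i : Fin 4060) : lineMap (f * g) i = lineMap f (lineMap g i) := by
  rw [lineMap, ptMap_mul, line_ptMap]
  rfl

theorem lineMap_one (i : Fin 4060) : lineMap 1 i = i := by rw [lineMap, ptMap_one, line_rep]

/-- The action on lines. -/
noncomputable def linePerm : fourRu →* Equiv.Perm (Fin 4060) where
  toFun f :=
    { toFun := lineMap f
      invFun := lineMap f⁻¹
      left_inv := fun i => by rw [← lineMap_mul, inv_mul_cancel, lineMap_one]
      right_inv := fun i => by rw [← lineMap_mul, mul_inv_cancel, lineMap_one] }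
  map_one' := Equiv.ext lineMap_one
  map_mul' f g := Equiv.ext (lineMap_mul f g)

theorem linePerm_apply (f : fourRu) (i : Fin 4060) : linePerm f i = lineMap f i := rfl

/-- The tables agree. -/
noncomputable def sameLine (g i : ℕ) : Bool :=
  Nat.beq (Nat.div (RuModel.imK g i) 4) (Ru.look (g + 1) i)

theorem sameLine_table : ∀ g : Fin 7,
    allB (fun i => Nat.ble 4060 i || sameLine g.val i) 12 0 = true := by
  decide +kernel

theorem linePerm_gen (g : Fin 7) :
    linePerm (RuModel.gen ⟨g.val, by omega⟩) = Ru.sig (g.val + 1) := by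
  refine Equiv.ext fun i => Fin.ext ?_
  have h : sameLine g.val i = true := Ru.of_allB (sameLine_table g) i i.isLt
  have h' : RuModel.imK g.val i / 4 = Ru.look (g.val + 1) i := Nat.eq_of_beq_eq_true h
  rw [Ru.sig_apply (by omega) (by omega), linePerm_apply, lineMap,
    ptMap_eq (RuModel.gen_ptL ⟨g.val, by omega⟩ (rep i)), ← h']
  show RuModel.imP g.val (4 * i.val) / 4 = _
  rw [RuModel.imP_eq, show 4 * i.val / 4 = i.val by omega, show 4 * i.val % 4 = 0 by omega]
  unfold RuModel.rot
  omega

theorem K_le_range : Ru.K ≤ linePerm.range := by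
  rw [Ru.K, Subgroup.closure_le]
  rintro _ ⟨g, rfl⟩
  exact ⟨_, linePerm_gen g⟩

theorem linePerm_zI (z : fourRu) (v : ℕ) (hz : ∀ x : ruLattice, (z : Equiv.Perm ruLattice) x = ruI^[v] x) :
    linePerm z = 1 := by
  refine Equiv.ext fun i => ?_
  rw [linePerm_apply, lineMap]
  have e : ptMap z (rep i) = ⟨RuModel.rot (rep i) v, RuModel.rot_lt (rep i).isLt v⟩ :=
    ptMap_eq (by rw [hz, rot_ptL])
  rw [e]
  exact Fin.ext (by simp only [RuModel.rot, rep, line, Equiv.Perm.one_apply]; omega)

end Cfsg.Agent.SporOut.RuLine
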