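import Cfsg.Agent.RuAut.Simple
import Cfsg.Agent.SporOut.RuLine

/-!
The Rudvalis group is isomorphic to the permutation group generated by the seven permutations.
-/

set_option autoImplicit false

namespace Cfsg.Agent.SporOut.RuLine

open Cfsg.Spor

theorem iPow_eq_iterate (v : ruLattice) : ∀ k : ℕ, RuAut.iPow k v = ruI^[k] v
  | 0 => rfl
  | k + 1 => by
    rw [Function.iterate_succ_apply', ← iPow_eq_iterate v k]
    rfl

theorem center_le_ker : Subgroup.center fourRu ≤ linePerm.ker := by
  intro z hz
  obtain ⟨k, -, rfl⟩ := RuAut.center_eq hz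
  exact linePerm_zI _ k fun x => (RuAut.zI_pow x k).trans (iPow_eq_iterate x k)

/-- The action of the Rudvalis group on the lines. -/
noncomputable def ruHom : Ru →* Equiv.Perm (Fin 4060) :=
  QuotientGroup.lift (Subgroup.center fourRu) linePerm center_le_ker

theorem linePerm_range_le : linePerm.range ≤ ruHom.range := by
  rintro _ ⟨f, rfl⟩
  exact ⟨(f : Ru), QuotientGroup.lift_mk _ _ f⟩

theorem ruHom_facts : Function.Injective ruHom ∧ ruHom.range = Ru.K ∧
    Nat.card Ru.K = 145926144000 := by
  have hfin : Finite Ru := Nat.finite_of_card_ne_zero (by rw [RuAut.card_ru]; norm_num)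
  have hle : Ru.K ≤ ruHom.range := K_le_range.trans linePerm_range_le
  have hge : 145926144000 ≤ Nat.card ruHom.range :=
    Ru.K_lower.trans (Subgroup.card_le_of_le hle)
  haveI := RuAut.ru_simple
  have hinj : Function.Injective ruHom := by
    rcases IsSimpleGroup.eq_bot_or_eq_top_of_normal ruHom.ker inferInstance with h | h
    · exact (MonoidHom.ker_eq_bot_iff _).1 h
    · exfalso
      have hb : ruHom.range = ⊥ := by
        rw [Subgroup.eq_bot_iff_forall]
        rintro _ ⟨x, rfl⟩
        exact MonoidHom.mem_ker.1 (h ▸ Subgroup.mem_top x)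
      rw [hb, Subgroup.card_bot] at hge
      omega
  have hr : Nat.card ruHom.range = 145926144000 := by
    rw [← Nat.card_congr (MonoidHom.ofInjective hinj).toEquiv, RuAut.card_ru]
  have heq : Ru.K = ruHom.range := Subgroup.eq_of_le_of_card_ge hle (hr ▸ Ru.K_lower)
  exact ⟨hinj, heq.symm, heq ▸ hr⟩

theorem card_K : Nat.card Ru.K = 145926144000 := ruHom_facts.2.2

/-- The isomorphism with the permutation group. -/
noncomputable def ruEquiv : Ru ≃* Ru.K :=
  (MonoidHom.ofInjective ruHom_facts.1).trans (MulEquiv.subgroupCongr ruHom_facts.2.1)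

end Cfsg.Agent.SporOut.RuLine
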