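import Cfsg.Agent.SporOut.RuFrame
import Cfsg.Prelude.Def_KGroupFacts

/-!
Every automorphism of the Rudvalis permutation group of degree 4060 is inner.
-/

set_option autoImplicit false
set_option maxRecDepth 100000

namespace Cfsg.Agent.SporOut.Ru

open Cfsg.Agent.CosetCert

/-- An element of the group from a packed word. -/
noncomputable def el (c : ℕ) : K :=
  if h : frame.ok c = true then ⟨frame.val c, Frame.val_mem frame_valid h⟩ else 1

theorem el_val {c : ℕ} (h : frame.ok c = true) : (el c : Equiv.Perm (Fin 4060)) = frame.val c := by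
  rw [el, dif_pos h]

/-- A product of elements of packed words. -/
noncomputable def elL (ws : List ℕ) : K := (ws.map el).prod

theorem elL_apply : ∀ ws : List ℕ, okL ws = true → ∀ i : Fin 4060,
    ((elL ws : Equiv.Perm (Fin 4060)) i : ℕ) = runL ws i
  | [], _, i => rfl
  | c :: cs, h, i => by
    simp only [okL, List.all_cons, Bool.and_eq_true] at h
    have ih := elL_apply cs h.2 i
    simp only [elL, List.map_cons, List.prod_cons, Subgroup.coe_mul, Equiv.Perm.mul_apply] at ih ⊢
    rw [el_val h.1, Frame.val_apply frame_valid h.1, ih]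
    rfl

theorem elL_singleton (c : ℕ) : elL [c] = el c := by simp [elL]

theorem elL_pair (a b : ℕ) : elL [a, b] = el a * el b := by simp [elL]

theorem elL_replicate (n c : ℕ) : elL (List.replicate n c) = el c ^ n := by simp [elL]

section
variable (hK : Nat.card K = 145926144000)
include hK

theorem eq_of_sameW {ws vs : List ℕ} (h : sameW ws vs = true) : elL ws = elL vs := by
  simp only [sameW, basePts, Bool.and_eq_true, List.all_cons, List.all_nil, Bool.and_true] at h
  obtain ⟨hw, hv, h0, h1, h2, h3⟩ := h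
  refine Subtype.ext ((chainA_valid hK).ext frame_valid (elL ws).2 (elL vs).2 ?_ ?_ ?_ ?_) <;>
    · apply Fin.ext
      rw [elL_apply _ hw, elL_apply _ hv]
      apply Nat.eq_of_beq_eq_true
      assumption

omit hK in
theorem ne_one_of_movesW {ws : List ℕ} (h : movesW ws = true) : elL ws ≠ 1 := by
  intro e
  simp only [movesW, Bool.and_eq_true, List.any_eq_true] at h
  obtain ⟨hw, p, hp, hne⟩ := h
  have hpN : p < 4060 := by
    have : ∀ q ∈ basePts, q < 4060 := by decide +kernel
    exact this p hp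
  have := elL_apply ws hw ⟨p, hpN⟩
  rw [e] at this
  simp only [Subgroup.coe_one, Equiv.Perm.one_apply] at this
  rw [← this, Bool.not_eq_true'] at hne
  exact Bool.noConfusion ((Nat.beq_refl _).symm.trans hne)

end

/-- The element of order 29. -/
noncomputable def X : K := el codeX

/-- The element of order 14 normalising `X`. -/
noncomputable def H : K := el codeH

/-- The elements centralising `H`. -/
noncomputable def Zc (k : ℕ) : K := el (wordsZ.getD k 1)

/-- Evaluation of a word in the six letters `X, X⁻¹, H, H⁻¹, z, z⁻¹`. -/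
def ev6 {G : Type*} [Group G] (x h z : G) (r : List ℕ) : G :=
  ((r.map fun i => [x, x⁻¹, h, h⁻¹, z, z⁻¹].getD i 1).reverse).prod

theorem map_ev6 {G G' : Type*} [Group G] [Group G'] (f : G →* G') (x h z : G) (r : List ℕ) :
    f (ev6 x h z r) = ev6 (f x) (f h) (f z) r := by
  rw [ev6, ev6, map_list_prod, ← List.map_reverse, ← List.map_reverse, List.map_map]
  congr 1
  refine List.map_congr_left fun i _ => ?_
  rcases i with _ | _ | _ | _ | _ | _ | i <;> simp

section
variable (hK : Nat.card K = 145926144000)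
include hK

theorem X_order : orderOf X = 29 := by
  haveI : Fact (Nat.Prime 29) := ⟨by norm_num⟩
  obtain ⟨h29, hne, -⟩ := element_facts
  refine orderOf_eq_prime ?_ ?_
  · have := eq_of_sameW hK h29
    rwa [elL_replicate] at this
  · have := ne_one_of_movesW hne
    rwa [elL_singleton] at this

theorem el_powX (i : Fin 29) : el (powX.getD i.val 1) = X ^ (i : ℕ) := by
  have := eq_of_sameW hK (powX_table i)
  rwa [elL_singleton, elL_replicate] at this

theorem basic_facts : el codeXI = X⁻¹ ∧ el codeHI = H⁻¹ ∧ el codeX4 = X ^ 4 ∧ el codeX2 = X ^ 2 ∧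
    H * X = X ^ 4 * H ∧ Zc idxZ * H = H * Zc idxZ := by
  obtain ⟨-, -, a, b, c, c2, d, e⟩ := element_facts
  have a := eq_of_sameW hK a
  have b := eq_of_sameW hK b
  have c := eq_of_sameW hK c
  have c2 := eq_of_sameW hK c2
  have d := eq_of_sameW hK d
  have e := eq_of_sameW hK e
  simp only [elL, List.map_cons, List.map_nil, List.prod_cons, List.prod_nil, mul_one] at a b c c2 d e
  have c' : el codeX4 = X ^ 4 := by
    rw [c, pow_succ, pow_succ, pow_succ, pow_one, mul_assoc, mul_assoc]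
    rfl
  refine ⟨eq_inv_of_mul_eq_one_left a, eq_inv_of_mul_eq_one_left b, c', c2.trans (pow_two _).symm, ?_, e⟩
  rw [← c']
  exact d

theorem Zc_inv (k : Fin 28) : el (revF 96 (wordsZ.getD k.val 1) 1) = (Zc k.val)⁻¹ := by
  have h := eq_of_sameW hK (wordsZ_table k).2.2
  rw [elL_pair] at h
  exact eq_inv_of_mul_eq_one_left h

/-- Powers one and two. -/
def expo (e : Bool) : ℕ := bif e then 2 else 1

theorem elL_substW (e : Bool) (k : Fin 28) (r : List ℕ) (hr : r.all (fun i => Nat.blt i 6) = true) :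
    elL (substW e k.val r) = ev6 (X ^ expo e) H (Zc k.val) r := by
  obtain ⟨e1, e2, -⟩ := basic_facts hK
  induction r with
  | nil => rfl
  | cons a r ih =>
    simp only [List.all_cons, Bool.and_eq_true] at hr
    have ha : a < 6 := Nat.le_of_ble_eq_true hr.1
    have hs : ev6 (X ^ expo e) H (Zc k.val) (a :: r) = ev6 (X ^ expo e) H (Zc k.val) r *
        [X ^ expo e, (X ^ expo e)⁻¹, H, H⁻¹, Zc k.val, (Zc k.val)⁻¹].getD a 1 := by
      simp [ev6]
    rw [hs, ← ih hr.2]
    simp only [substW, List.flatMap_cons, List.reverse_append, elL, List.map_append, List.prod_append]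
    congr 1
    have hz := Zc_inv hK k
    simp only [Zc, List.getD_eq_getElem?_getD] at hz
    interval_cases a <;> cases e <;>
      simp [expo, e1, e2, hz, pow_two, X, H, Zc]

theorem sig_eq_el (l : Fin 7) : (el (17 + l.val) : Equiv.Perm (Fin 4060)) = sig (l.val + 1) := by
  have hok : ∀ l : Fin 7, frame.ok (17 + l.val) = true := by decide +kernel
  rw [el_val (hok l)]
  refine Equiv.ext fun i => Fin.ext ?_
  rw [Frame.val_apply frame_valid (hok l), sig_apply (by omega) (by omega)]
  have hd : (17 + l.val) / 16 = 1 := by omega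
  have hm : (17 + l.val) % 16 = l.val + 1 := by omega
  have e : frame.run (17 + l.val) i = cond (Nat.ble (17 + l.val) 1) (i : ℕ)
      (runF look 95 ((17 + l.val) / 16) (look ((17 + l.val) % 16) i)) := rfl
  have hb : Nat.ble (17 + l.val) 1 = false := by
    rcases h : Nat.ble (17 + l.val) 1
    · rfl
    · exact absurd (Nat.le_of_ble_eq_true h) (by omega)
  rw [e, hb, hd, hm]
  rfl

/-- An automorphism is determined by the images of the three elements. -/
theorem aut_ext {φ ψ : MulAut K} (hx : φ X = ψ X) (hh : φ H = ψ H) (hz : φ (Zc idxZ) = ψ (Zc idxZ)) :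
    φ = ψ := by
  have hgen : ∀ l : Fin 7, φ (el (17 + l.val)) = ψ (el (17 + l.val)) := fun l => by
    obtain ⟨h1, h2⟩ := gen_table l
    have := eq_of_sameW hK h1
    rw [elL_singleton, elL_substW hK false ⟨idxZ, by decide +kernel⟩ _ h2] at this
    simp only [expo, cond_false, pow_one] at this
    rw [this]
    show φ.toMonoidHom _ = ψ.toMonoidHom _
    rw [map_ev6 φ.toMonoidHom, map_ev6 ψ.toMonoidHom]
    simp only [MulEquiv.coe_toMonoidHom, hx, hh, hz]
  apply MulEquiv.ext
  intro y
  have hle : K ≤ (φ.toMonoidHom.eqLocus ψ.toMonoidHom).map K.subtype := by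
    refine (Subgroup.closure_le _).2 ?_
    rintro _ ⟨l, rfl⟩
    exact ⟨el (17 + l.val), hgen l, sig_eq_el hK l⟩
  obtain ⟨z, hz', e⟩ := hle y.2
  rw [← Subtype.ext e]
  exact hz'

theorem eq_el_of_images {C : Chain} (hC : C.Valid frame) {g : K} {c : ℕ} {a : ℕ × ℕ × ℕ × ℕ}
    (hc : frame.ok c = true)
    (ha : a = (frame.run c C.b0, frame.run c C.b1, frame.run c C.b2, frame.run c C.b3))
    (h0 : (g.1 ⟨C.b0, hC.lt0⟩ : ℕ) = a.1) (h1 : (g.1 ⟨C.b1, hC.lt1⟩ : ℕ) = a.2.1)
    (h2 : (g.1 ⟨C.b2, hC.lt2⟩ : ℕ) = a.2.2.1) (h3 : (g.1 ⟨C.b3, hC.lt3⟩ : ℕ) = a.2.2.2) :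
    g = el c := by
  subst ha
  refine Subtype.ext (hC.ext frame_valid g.2 (el c).2 ?_ ?_ ?_ ?_) <;> apply Fin.ext <;>
    rw [el_val hc, Frame.val_apply frame_valid hc] <;> assumption

/-- The solutions of `g X = X⁴ g`. -/
theorem solve_H {g : K} (hg : g * X = X ^ 4 * g) :
    ∃ j : Fin 29, g = X ^ (j : ℕ) * H * (X ^ (j : ℕ))⁻¹ := by
  have hX : frame.ok codeX = true := by decide +kernel
  have hX4 : frame.ok codeX4 = true := by decide +kernel
  have hgs : g.1 * frame.val codeX = frame.val codeX4 * g.1 := by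
    rw [← el_val hX, ← el_val hX4, (basic_facts hK).2.2.1]
    exact congrArg Subtype.val hg
  obtain ⟨a, ha, e0, e1, e2, e3⟩ := cyc_sound (chainA_valid hK) frame_valid hX hX4
    (by decide +kernel) (by decide +kernel) (of_allB searchX_ok) g.2 hgs
  obtain ⟨j, hj, rfl⟩ := List.getElem_of_mem ha
  have hj29 : j < 29 := cand_length.1 ▸ hj
  refine ⟨⟨j, hj29⟩, ?_⟩
  obtain ⟨hs, hc⟩ := conjH_table ⟨j, hj29⟩
  simp only at hs hc
  rw [List.getD_eq_getElem _ _ hj] at hc
  have hgel := eq_el_of_images hK (chainA_valid hK) (conjH_ok ⟨j, hj29⟩) hc e0 e1 e2 e3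
  have h2 := eq_of_sameW hK hs
  rw [elL_pair, elL_pair] at h2
  have hp := el_powX hK ⟨j, hj29⟩
  simp only at hp
  rw [hp, show el codeH = H from rfl] at h2
  rw [hgel, eq_mul_inv_iff_mul_eq]
  exact h2

/-- The centraliser of `H`. -/
theorem solve_Z {g : K} (hg : g * H = H * g) : ∃ k : Fin 28, g = Zc k.val := by
  have hH : frame.ok codeH = true := by decide +kernel
  have hgs : g.1 * frame.val codeH = frame.val codeH * g.1 := by
    rw [← el_val hH]
    exact congrArg Subtype.val hg
  obtain ⟨a, ha, e0, e1, e2, e3⟩ := cyc_sound (chainB_valid hK) frame_valid hH hH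
    (by decide +kernel) (by decide +kernel) (of_allB searchZ_ok) g.2 hgs
  obtain ⟨k, hk, rfl⟩ := List.getElem_of_mem ha
  have hk28 : k < 28 := cand_length.2 ▸ hk
  refine ⟨⟨k, hk28⟩, ?_⟩
  obtain ⟨ho, hc, -⟩ := wordsZ_table ⟨k, hk28⟩
  simp only at ho hc
  rw [List.getD_eq_getElem _ _ hk] at hc
  exact eq_el_of_images hK (chainB_valid hK) ho hc e0 e1 e2 e3

/-- After an inner automorphism, an automorphism with `X ↦ X ^ e` fixes `H` and maps `z` to a candidate. -/
theorem normalise {ψ : MulAut K} (e : Bool) (hx : ψ X = X ^ expo e) :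
    ∃ (P : K) (θ : MulAut K) (k : Fin 28), ψ = MulAut.conj P * θ ∧ θ X = X ^ expo e ∧ θ H = H ∧
      θ (Zc idxZ) = Zc k.val := by
  obtain ⟨-, -, -, -, hHX, hZH⟩ := basic_facts hK
  have h29 : X ^ 29 = 1 := X_order hK ▸ pow_orderOf_eq_one X
  have hg : ψ H * X = X ^ 4 * ψ H := by
    have h0 : SemiconjBy (ψ H) (X ^ expo e) ((X ^ expo e) ^ 4) := by
      rw [← hx, ← map_pow]
      exact (congrArg ψ hHX |> fun h => by rwa [map_mul, map_mul] at h)
    have h1 := h0.pow_right (bif e then 15 else 1)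
    cases e
    · simp only [expo, cond_false, pow_one] at h1
      exact h1
    · simp only [expo, cond_true, ← pow_mul] at h1
      rw [show X ^ (2 * 15) = X by rw [pow_succ X 29, h29, one_mul],
        show X ^ (2 * 4 * 15) = X ^ 4 by
          rw [show 2 * 4 * 15 = 29 * 4 + 4 from rfl, pow_add, pow_mul, h29, one_pow, one_mul]] at h1
      exact h1
  obtain ⟨j, hj⟩ := solve_H hK hg
  set P : K := X ^ (j : ℕ)
  set θ : MulAut K := MulAut.conj P⁻¹ * ψ with hθ
  have tx : θ X = X ^ expo e := by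
    rw [hθ, MulAut.mul_apply, hx, MulAut.conj_apply, inv_inv,
      show P⁻¹ * X ^ expo e = X ^ expo e * P⁻¹ from ((Commute.refl X).pow_pow _ _).inv_left.eq,
      mul_assoc, inv_mul_cancel, mul_one]
  have th : θ H = H := by
    rw [hθ, MulAut.mul_apply, hj, MulAut.conj_apply]
    group
  obtain ⟨k, hk⟩ := solve_Z hK (g := θ (Zc idxZ)) (by
    conv_lhs => rw [← th, ← map_mul, hZH]
    rw [map_mul, th])
  exact ⟨P, θ, k, by rw [hθ, map_inv, mul_inv_cancel_left], tx, th, hk⟩

theorem not_two {ψ : MulAut K} (hx : ψ X = X ^ 2) : False := by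
  obtain ⟨P, θ, k, -, tx, th, hk⟩ := normalise hK true hx
  obtain ⟨h1, h2, h3⟩ := relTwo_table k
  apply ne_one_of_movesW h2
  rw [elL_substW hK true k _ h3, ← tx, ← hk]
  have e1 := eq_of_sameW hK h1
  rw [elL_substW hK false ⟨idxZ, by decide +kernel⟩ _ h3] at e1
  simp only [expo, cond_false, pow_one] at e1
  calc ev6 (θ X) H (θ (Zc idxZ)) _ = ev6 (θ X) (θ H) (θ (Zc idxZ)) _ := by rw [th]
    _ = θ (ev6 X H (Zc idxZ) _) := (map_ev6 θ.toMonoidHom _ _ _ _).symm
    _ = 1 := by rw [e1]; exact map_one θ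

theorem inner_of_fix {ψ : MulAut K} (hx : ψ X = X) : ∃ g : K, ψ = MulAut.conj g := by
  obtain ⟨P, θ, k, hψ, tx, th, hk⟩ := normalise hK false (ψ := ψ) (by simpa [expo] using hx)
  simp only [expo, cond_false, pow_one] at tx
  have hidx : k.val = idxZ := by
    rcases relOne_table k with h | ⟨h1, h2, h3⟩
    · exact h
    · exfalso
      apply ne_one_of_movesW h2
      rw [elL_substW hK false k _ h3]
      simp only [expo, cond_false, pow_one]
      rw [← hk]
      have e1 := eq_of_sameW hK h1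
      rw [elL_substW hK false ⟨idxZ, by decide +kernel⟩ _ h3] at e1
      simp only [expo, cond_false, pow_one] at e1
      calc ev6 X H (θ (Zc idxZ)) _ = ev6 (θ X) (θ H) (θ (Zc idxZ)) _ := by rw [tx, th]
        _ = θ (ev6 X H (Zc idxZ) _) := (map_ev6 θ.toMonoidHom _ _ _ _).symm
        _ = 1 := by rw [e1]; exact map_one θ
  rw [hidx] at hk
  have h1 : θ = 1 := aut_ext hK (by rw [tx]; rfl) (by rw [th]; rfl) (by rw [hk]; rfl)
  exact ⟨P, by rw [hψ, h1, mul_one]⟩

/-- Every automorphism is inner. -/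
theorem aut_inner (φ : MulAut K) : ∃ g : K, φ = MulAut.conj g := by
  haveI : Fact (Nat.Prime 29) := ⟨by norm_num⟩
  have hfinite : Finite K := Nat.finite_of_card_ne_zero (by rw [hK]; norm_num)
  have hX := X_order hK
  have hy : orderOf (φ X) = 29 := by rw [φ.orderOf_eq, hX]
  have hf : (Nat.card K).factorization 29 = 1 := by
    rw [hK, show (145926144000 : ℕ) = 29 * 5031936000 by norm_num,
      Nat.factorization_mul (by norm_num) (by norm_num), Finsupp.add_apply,
      (by norm_num : Nat.Prime 29).factorization_self,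
      Nat.factorization_eq_zero_of_not_dvd (by norm_num : ¬ 29 ∣ 5031936000)]
  have hc : ∀ u : K, orderOf u = 29 →
      Nat.card (Subgroup.zpowers u) = 29 ^ (Nat.card K).factorization 29 := fun u hu => by
    rw [Nat.card_zpowers, hu, hf, pow_one]
  obtain ⟨g, hg⟩ := MulAction.exists_smul_eq K (Sylow.ofCard _ (hc _ hy))
    (Sylow.ofCard _ (hc X hX))
  have hm : g * φ X * g⁻¹ ∈ Subgroup.zpowers X := by
    have e : ((g • Sylow.ofCard _ (hc _ hy) : Sylow 29 K) : Subgroup K) = Subgroup.zpowers X := by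
      rw [hg]; rfl
    rw [← e, Sylow.coe_subgroup_smul]
    exact ⟨φ X, Subgroup.mem_zpowers _, rfl⟩
  obtain ⟨i, hi⟩ := (mem_powers_iff_mem_zpowers.2 hm : g * φ X * g⁻¹ ∈ Submonoid.powers X)
  simp only at hi
  have h0 : i % 29 ≠ 0 := fun h => by
    have h1 : g * φ X * g⁻¹ = 1 := by
      rw [← hi]
      exact orderOf_dvd_iff_pow_eq_one.1 (hX ▸ Nat.dvd_of_mod_eq_zero h)
    rw [conj_eq_one_iff] at h1
    rw [h1, orderOf_one] at hy
    norm_num at hy
  obtain ⟨j, hj⟩ : ∃ j : Fin 28, i % 29 = j.val + 1 := ⟨⟨i % 29 - 1, by omega⟩, by simp only; omega⟩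
  rw [pow_mod_orderOf X i |>.symm, hX, hj] at hi
  have hp := el_powX hK ⟨j.val + 1, by omega⟩
  simp only at hp
  rcases toClass_table j with ⟨-, h⟩ | ⟨-, h⟩
  · exfalso
    set u := el (toClass.getD j.val (false, 1)).2
    have e := eq_of_sameW hK h
    rw [elL_pair, elL_pair, hp, (basic_facts hK).2.2.2.1] at e
    refine not_two hK (ψ := MulAut.conj (u * g) * φ) ?_
    rw [MulAut.mul_apply, MulAut.conj_apply]
    calc u * g * φ X * (u * g)⁻¹ = u * (g * φ X * g⁻¹) * u⁻¹ := by group
      _ = X ^ 2 := by rw [← hi, e]; exact mul_inv_cancel_right _ _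
  · set u := el (toClass.getD j.val (false, 1)).2
    have e := eq_of_sameW hK h
    rw [elL_pair, elL_pair, hp] at e
    obtain ⟨r, hr⟩ := inner_of_fix hK (ψ := MulAut.conj (u * g) * φ) (by
      rw [MulAut.mul_apply, MulAut.conj_apply]
      calc u * g * φ X * (u * g)⁻¹ = u * (g * φ X * g⁻¹) * u⁻¹ := by group
        _ = X := by rw [← hi, e]; exact mul_inv_cancel_right _ _)
    refine ⟨(u * g)⁻¹ * r, ?_⟩
    rw [map_mul, ← hr, map_inv, inv_mul_cancel_left]

theorem card_out_K : Nat.card (Cfsg.Out K) = 1 := by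
  have htop : Cfsg.Inn K = ⊤ := eq_top_iff.2 fun φ _ => by
    obtain ⟨g, rfl⟩ := aut_inner hK φ
    exact ⟨g, rfl⟩
  show (Cfsg.Inn K).index = 1
  rw [htop, Subgroup.index_top]

/-- Transport to an isomorphic group. -/
theorem card_out_of_equiv {G : Type*} [Group G] (e : G ≃* K) : Nat.card (Cfsg.Out G) = 1 := by
  rw [← card_out_K hK]
  show (Cfsg.Inn G).index = (Cfsg.Inn K).index
  rw [← Subgroup.index_map_equiv (Cfsg.Inn G) (MulAut.congr e)]
  congr 1
  ext φ
  constructor
  · rintro ⟨_, ⟨g, rfl⟩, rfl⟩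
    refine ⟨e g, MulEquiv.ext fun y => ?_⟩
    simp [MulAut.congr]
  · rintro ⟨g, rfl⟩
    refine ⟨MulAut.conj (e.symm g), ⟨_, rfl⟩, MulEquiv.ext fun y => ?_⟩
    simp [MulAut.congr]

end

end Cfsg.Agent.SporOut.Ru
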