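import Cfsg.Agent.SporOut.Sift
import Cfsg.Agent.SporOut.HeData
import Cfsg.Agent.CosetCert.HeldSp.Main
import Cfsg.Agent.S1695

/-!
The Held group on 2058 points as a frame for sifting, with the finite checks about its automorphisms.
-/

set_option autoImplicit false
set_option maxRecDepth 100000

namespace Cfsg.Agent.SporOut.He

open Cfsg.Agent.CosetCert

theorem exists_rep : ∃ φ : Cfsg.Spor.He →* Equiv.Perm (Fin 2058),
    ∀ a, φ (PresentedGroup.of a) =
      (PresData.genPerm HeldSp.valid a : Equiv.Perm (Fin 2058)) := by
  obtain ⟨φ, h, -⟩ := enum_spec HeldSp.valid HeldSp.word_letters HeldSp.base_letters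
  exact ⟨φ, h⟩

/-- The representation on 2058 points. -/
noncomputable def rep : Cfsg.Spor.He →* Equiv.Perm (Fin 2058) := exists_rep.choose

theorem rep_of (a) : rep (PresentedGroup.of a) =
    (PresData.genPerm HeldSp.valid a : Equiv.Perm (Fin 2058)) := exists_rep.choose_spec a

theorem cols_length : HeldSp.data.cols.length = 7 := by decide +kernel

/-- Value of a letter in the presented group. -/
noncomputable def gl (l : ℕ) : Cfsg.Spor.He := HeldSp.data.act PresentedGroup.of l

theorem rep_gl {l : ℕ} (h1 : 1 ≤ l) (h2 : l ≤ 7) (i : Fin 2058) :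
    (rep (gl l) i : ℕ) = HeldSp.data.look l i := by
  have h2' : l ≤ HeldSp.data.cols.length := by rw [cols_length]; exact h2
  have e : rep (gl l) = (PresData.perm HeldSp.valid l : Equiv.Perm (Fin 2058)) :=
    ((HeldSp.data.map_act rep PresentedGroup.of l).trans
      (congrArg (fun f => HeldSp.data.act f l) (funext rep_of))).trans
      (PresData.act_genPerm HeldSp.valid h1 h2')
  rw [e]
  exact PresData.perm_apply HeldSp.valid h1 h2' i

/-- The image. -/
noncomputable abbrev K : Subgroup (Equiv.Perm (Fin 2058)) := rep.range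

/-- The frame. -/
noncomputable def frame : Frame 2058 where
  T := HeldSp.data.look
  nL := 7
  σ l := rep (gl l)
  K := K

theorem frame_valid : frame.Valid where
  spec _ h1 h2 i := rep_gl h1 h2 i
  mem l _ _ := ⟨gl l, rfl⟩

theorem rep_injective : Function.Injective rep := by
  have := Cfsg.Agent.S1695.result.1
  rw [← MonoidHom.ker_eq_bot_iff]
  rcases (Cfsg.Agent.S1695.result.1).eq_bot_or_eq_top_of_normal rep.ker inferInstance with h | h
  · exact h
  · exfalso
    have h1 : rep (gl 2) = 1 := MonoidHom.mem_ker.1 (h ▸ Subgroup.mem_top _)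
    have h2 := rep_gl (l := 2) (by norm_num) (by norm_num) 0
    rw [h1] at h2
    revert h2
    decide +kernel

theorem card_K : Nat.card K = 4030387200 := by
  rw [← Nat.card_congr (MonoidHom.ofInjective rep_injective).toEquiv, Cfsg.Agent.S1695.result.2]

/-- First chain. -/
def chainA : Chain :=
  ⟨baseA.1, baseA.2.1, baseA.2.2.1, baseA.2.2.2, ordA0, levA1, levA2, levA3⟩

/-- Second chain. -/
def chainB : Chain :=
  ⟨baseB.1, baseB.2.1, baseB.2.2.1, baseB.2.2.2, ordA0, levB1, levB2, levB3⟩

theorem lev_of_allB {F : Frame 2058} {t : PTree} {b : ℕ} {prev : List ℕ}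
    (h : allB (fun y => Nat.ble 2058 y || levOK F t b prev y) 12 0 = true) :
    ∀ y < 2058, levOK F t b prev y = true := fun y hy => by
  have h1 := allB_spec_zero h (by norm_num) hy
  rw [Bool.or_eq_true] at h1
  rcases h1 with h1 | h1
  · exact absurd (Nat.le_of_ble_eq_true h1) (not_le.2 hy)
  · exact h1

theorem lev0_ok : allB (fun y => Nat.ble 2058 y || levOK frame ordA0 0 [] y) 12 0 = true := by
  decide +kernel

theorem levA1_ok : allB (fun y => Nat.ble 2058 y || levOK frame levA1 chainA.b1 [chainA.b0] y) 12 0 = true := by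
  decide +kernel

theorem levA2_ok : allB (fun y => Nat.ble 2058 y ||
    levOK frame levA2 chainA.b2 [chainA.b0, chainA.b1] y) 12 0 = true := by
  decide +kernel

theorem levA3_ok : allB (fun y => Nat.ble 2058 y ||
    levOK frame levA3 chainA.b3 [chainA.b0, chainA.b1, chainA.b2] y) 12 0 = true := by
  decide +kernel

theorem levB1_ok : allB (fun y => Nat.ble 2058 y || levOK frame levB1 chainB.b1 [chainB.b0] y) 12 0 = true := by
  decide +kernel

theorem levB2_ok : allB (fun y => Nat.ble 2058 y ||
    levOK frame levB2 chainB.b2 [chainB.b0, chainB.b1] y) 12 0 = true := by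
  decide +kernel

theorem levB3_ok : allB (fun y => Nat.ble 2058 y ||
    levOK frame levB3 chainB.b3 [chainB.b0, chainB.b1, chainB.b2] y) 12 0 = true := by
  decide +kernel

theorem chainA_valid : chainA.Valid frame where
  lt0 := by decide +kernel
  lt1 := by decide +kernel
  lt2 := by decide +kernel
  lt3 := by decide +kernel
  lev0 := lev_of_allB lev0_ok
  lev1 := lev_of_allB levA1_ok
  lev2 := lev_of_allB levA2_ok
  lev3 := lev_of_allB levA3_ok
  card := by
    show Nat.card K = _
    rw [card_K]
    decide +kernel

theorem chainB_valid : chainB.Valid frame where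
  lt0 := by decide +kernel
  lt1 := by decide +kernel
  lt2 := by decide +kernel
  lt3 := by decide +kernel
  lev0 := lev_of_allB lev0_ok
  lev1 := lev_of_allB levB1_ok
  lev2 := lev_of_allB levB2_ok
  lev3 := lev_of_allB levB3_ok
  card := by
    show Nat.card K = _
    rw [card_K]
    decide +kernel

theorem searchX_ok : allB (fun y => Nat.ble 2058 y ||
    searchOK frame chainA 12 codeX codeX2 candH qsX y) 12 0 = true := by
  decide +kernel

theorem searchX3_ok : allB (fun y => Nat.ble 2058 y ||
    searchOK frame chainA 12 codeX codeX3 [] qsX3 y) 12 0 = true := by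
  decide +kernel

theorem searchZ_ok : allB (fun y => Nat.ble 2058 y ||
    searchOK frame chainB 12 codeH codeH3 candZ qsZ y) 12 0 = true := by
  decide +kernel

theorem search_of_allB {C : Chain} {s t : ℕ} {L : List (ℕ × ℕ × ℕ × ℕ)} {qs : List ℕ}
    (h : allB (fun y => Nat.ble 2058 y || searchOK frame C 12 s t L qs y) 12 0 = true) :
    ∀ y < 2058, searchOK frame C 12 s t L qs y = true := fun y hy => by
  have h1 := allB_spec_zero h (by norm_num) hy
  rw [Bool.or_eq_true] at h1
  rcases h1 with h1 | h1
  · exact absurd (Nat.le_of_ble_eq_true h1) (not_le.2 hy)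
  · exact h1

/-- A product of codes. -/
noncomputable def runL (ws : List ℕ) (i : ℕ) : ℕ := ws.foldr (fun c j => frame.run c j) i

/-- All codes are in range. -/
noncomputable def okL (ws : List ℕ) : Bool := ws.all fun c => frame.ok c

/-- Two products agree on the base. -/
noncomputable def sameW (ws vs : List ℕ) : Bool :=
  okL ws && (okL vs && ([chainA.b0, chainA.b1, chainA.b2, chainA.b3].all fun p =>
    Nat.beq (runL ws p) (runL vs p)))

/-- A product moves some base point. -/
noncomputable def movesW (ws : List ℕ) : Bool :=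
  okL ws && ([chainA.b0, chainA.b1, chainA.b2, chainA.b3].any fun p => !Nat.beq (runL ws p) p)

/-- The substituted word of a candidate. -/
def substW (k : ℕ) (r : List ℕ) : List ℕ :=
  (r.map fun i => [codeX, codeXI, codeH, codeHI, wordsZ.getD k 1].getD i 1).reverse

theorem element_facts :
    sameW (List.replicate 17 codeX) [] = true ∧ movesW [codeX] = true ∧
    sameW [codeXI, codeX] [] = true ∧ sameW [codeHI, codeH] [] = true ∧
    sameW [codeX2] [codeX, codeX] = true ∧ sameW [codeH, codeX] [codeX2, codeH] = true ∧
    sameW [codeH3] [codeH, codeH, codeH] = true ∧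
    sameW [wordsZ.getD idxZ 1, codeH] [codeH3, wordsZ.getD idxZ 1] = true := by
  decide +kernel

theorem powX_table : ∀ i : Fin 17,
    sameW [powX.getD i.val 1] (List.replicate i.val codeX) = true := by
  decide +kernel

theorem toClass_table : ∀ i : Fin 16,
    (toClass.getD i.val (false, 1)).1 = true ∧
      sameW [(toClass.getD i.val (false, 1)).2, powX.getD (i.val + 1) 1]
        [codeX3, (toClass.getD i.val (false, 1)).2] = true ∨
    (toClass.getD i.val (false, 1)).1 = false ∧
      sameW [(toClass.getD i.val (false, 1)).2, powX.getD (i.val + 1) 1]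
        [codeX, (toClass.getD i.val (false, 1)).2] = true := by
  decide +kernel

theorem conjH_table : ∀ j : Fin 17,
    sameW [conjH.getD j.val 1, powX.getD j.val 1] [powX.getD j.val 1, codeH] = true ∧
    candH.getD j.val (0, 0, 0, 0) = (frame.run (conjH.getD j.val 1) chainA.b0,
      frame.run (conjH.getD j.val 1) chainA.b1, frame.run (conjH.getD j.val 1) chainA.b2,
      frame.run (conjH.getD j.val 1) chainA.b3) := by
  decide +kernel

theorem candH_length : candH.length = 17 ∧ candZ.length = 16 := by decide +kernel

theorem wordsZ_table : ∀ k : Fin 16, frame.ok (wordsZ.getD k.val 1) = true ∧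
    candZ.getD k.val (0, 0, 0, 0) = (frame.run (wordsZ.getD k.val 1) chainB.b0,
      frame.run (wordsZ.getD k.val 1) chainB.b1, frame.run (wordsZ.getD k.val 1) chainB.b2,
      frame.run (wordsZ.getD k.val 1) chainB.b3) := by
  decide +kernel

theorem conjH_ok : ∀ j : Fin 17, frame.ok (conjH.getD j.val 1) = true := by decide +kernel

theorem rel_table : ∀ k : Fin 16, k.val = idxZ ∨
    (sameW (substW idxZ (relWords.getD k.val [])) [] = true ∧
      movesW (substW k.val (relWords.getD k.val [])) = true ∧
      (relWords.getD k.val []).all (fun i => Nat.blt i 5) = true) := by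
  decide +kernel

theorem gen_table : ∀ l : Fin 7,
    sameW [17 + l.val] (substW idxZ (genWords.getD l.val [])) = true ∧
      (genWords.getD l.val []).all (fun i => Nat.blt i 5) = true := by
  decide +kernel

theorem sig_bij : allB (fun x => Nat.ble 2058 x ||
    (Nat.blt (sigT.get 16 x) 2058 && (Nat.blt (sigInvT.get 16 x) 2058 &&
      (Nat.beq (sigInvT.get 16 (sigT.get 16 x)) x && Nat.beq (sigT.get 16 (sigInvT.get 16 x)) x)))) 12 0
    = true := by
  decide +kernel

theorem sig_words_ok : ∀ l : Fin 7, frame.ok (sigWords.getD l.val 1) = true := by decide +kernel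

theorem sig_conj : ∀ l : Fin 7, allB (fun x => Nat.ble 2058 x ||
    Nat.beq (sigT.get 16 (HeldSp.data.look (l.val + 1) x))
      (frame.run (sigWords.getD l.val 1) (sigT.get 16 x))) 12 0 = true := by
  decide +kernel

theorem sig_X : ([chainA.b0, chainA.b1, chainA.b2, chainA.b3].all fun p =>
    Nat.beq (sigT.get 16 (frame.run codeX (sigInvT.get 16 p))) (frame.run codeX3 p)) = true := by
  decide +kernel

end Cfsg.Agent.SporOut.He
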