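import Cfsg.Agent.SporOut.SiftCode

/-! Machine-generated certificates for the Schur multiplier of the Held group. -/

set_option autoImplicit false
set_option maxRecDepth 100000

namespace Cfsg.Agent.SporOut.He

open Cfsg.Agent.SchurCert

/-- Words of the generators of a Sylow 2-subgroup. -/
def twoGens : List ℕ := [0x14324343256434346523434234, 0x1432476432543643423453467434, 0x143243432434643463423434234, 0x13474325434742345234743, 0x1364343276432465434672343463, 0x11354364327434364347234634531, 0x113243432174346434723434231, 0x1147464343217434723423464532, 0x123432546432453423464523432, 0x1123214347434672346234543]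

/-- Words of the fusing elements. -/
def twoFus : List ℕ := [0x11364374324345342347634523, 0x12432456432474347642345234743, 0x113243243643214574347342347343, 0x113212434734623434647, 0x1132543243274347343475342, 0x134354764324543472343452347]

/-- The certificate. -/
def twoCert : Cert where
  P :=
    { p := 2
      n := 10
      powW := [[], [0], [], [], [], [], [], [0], [], [0]]
      cjW := [[], [[0]], [[0], [0, 1]], [[0], [0, 1], [0, 2]], [[0], [1], [2], [0, 3]], [[0], [1, 3, 4], [4], [2, 3, 4], [2]], [[0], [0, 1], [2], [0, 3], [4], [0, 2, 4, 5]], [[0], [1, 2, 4, 6], [0, 2], [0, 2, 3, 4], [0, 4], [2, 4, 5], [6]], [[0], [1, 4], [2], [2, 3, 4], [4], [5], [0, 6], [7]], [[0], [0, 1, 2, 4, 6], [2], [3, 4, 6], [0, 4], [2, 5, 7, 8], [0, 6], [7], [0, 8]]] }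
  gens := [72021643067517, 18993555076786, 9277354890992, 120331433428770, 100153979286258, 7729018430265, 66932993476187, 113075771770285, 138490673209549, 77124180549634]
  gs := [39938386805137, 99731010835083, 23586038875632, 43045544038457, 12245958406318, 92654461428125]
  rows := [
    .assoc 9 9 9,
    .assoc 9 9 8,
    .assoc 9 9 7,
    .assoc 9 9 6,
    .assoc 9 9 5,
    .assoc 9 9 4,
    .assoc 9 9 3,
    .assoc 9 9 2,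
    .assoc 9 9 1,
    .assoc 9 8 5,
    .assoc 9 8 3,
    .assoc 9 8 1,
    .assoc 9 7 5,
    .assoc 9 7 3,
    .assoc 9 7 1,
    .assoc 9 6 5,
    .assoc 9 6 3,
    .assoc 9 6 1,
    .assoc 9 5 5,
    .assoc 9 5 4,
    .assoc 9 5 3,
    .assoc 9 5 2,
    .assoc 9 5 1,
    .assoc 9 4 1,
    .assoc 9 3 3,
    .assoc 9 3 1,
    .assoc 9 1 1,
    .assoc 8 8 3,
    .assoc 8 8 1,
    .assoc 8 7 5,
    .assoc 8 7 3,
    .assoc 8 5 3,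
    .assoc 8 5 1,
    .assoc 8 3 3,
    .assoc 8 3 1,
    .assoc 5 5 1,
    .assoc 5 1 1,
    .fus 0 [[0, 4, 6], [4, 9]] [[2, 6, 7, 8, 9], [2, 6, 7]] [0, 0] [],
    .fus 0 [[0, 4, 6], [4, 9]] [[2, 6, 7, 8, 9], [2, 6, 7]] [1, 0] [0, 1],
    .fus 0 [[0, 4, 6], [4, 9]] [[2, 6, 7, 8, 9], [2, 6, 7]] [1, 1] [],
    .fus 0 [[0, 2, 4, 7, 8], [7, 8, 9]] [[4, 6, 8, 9], [2, 7, 9]] [1, 0] [0, 1],
    .fus 0 [[0, 2, 4, 7, 8], [7, 8, 9]] [[4, 6, 8, 9], [2, 7, 9]] [1, 1] [0, 0],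
    .fus 1 [[2, 4, 5, 6, 9], [3, 6, 7, 8, 9]] [[0, 2, 3, 4, 5, 7, 8, 9], [0, 4, 5, 7, 8, 9]] [1, 0, 1] [0, 0, 0],
    .fus 1 [[2, 3, 4, 6, 7, 8, 9], [2, 3, 9]] [[0, 2, 5, 7, 8, 9], [0, 2, 4, 5, 6, 7, 9]] [1, 1] [0, 0],
    .fus 2 [[5, 6, 7], [0, 2, 6, 7, 8]] [[1, 2, 3], [2, 4, 6, 9]] [0, 0] [],
    .fus 2 [[2, 4, 6, 7], [2, 5, 6, 9]] [[2, 4, 6, 8, 9], [1, 2, 3, 4, 6, 7]] [1, 0] [0, 1],
    .fus 3 [[0, 2, 4, 5]] [[0, 1, 3, 6]] [0, 0] [],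
    .fus 4 [[0, 5, 8]] [[0, 2, 4, 6]] [0, 0] [],
    .fus 5 [[0, 2, 6, 8, 9], [0, 8]] [[0, 2, 4, 5, 8], [3]] [1, 0] [0, 1]]
  beta := [[54], [], [47, 49, 54], [17, 40, 47, 49, 54], [40, 47, 49, 54], [], [40, 47, 54], [47, 49, 51, 54], [], []]
  combo := [[0, 1, 2, 7, 9, 12, 21], [0, 3, 4, 7, 8, 9, 10, 11, 17, 19, 20, 21, 24, 25, 27, 28, 30, 36, 40, 43, 46, 47], [0, 3, 6, 7, 8, 9, 11, 12, 13, 15, 16, 19, 21, 23, 27, 28], [0, 3, 5, 6, 8, 9, 11, 13, 14, 15, 17, 19, 21, 23, 30, 40], [7], [0, 1, 3, 4, 5, 6, 9, 11, 12, 13, 14, 15, 18, 19, 20, 21, 26, 28, 29, 30, 31, 32, 34, 37, 41, 42, 44, 46, 47, 48], [2, 3, 5, 8, 11, 12, 13, 15, 19, 27, 28, 30, 31, 32, 33, 35, 37, 38, 40, 41, 48], [0, 2, 7, 10, 13, 15, 17, 19, 23], [0, 1, 2, 3, 4, 7, 9, 11, 12, 13, 15, 17, 18, 20, 23, 26, 33, 35, 36, 38, 42, 44, 46, 47], [0, 2, 4, 7, 8, 9, 17, 18, 20, 21, 23, 24, 25, 28,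 29, 31, 32, 34, 37, 40, 41, 42, 44, 46, 47, 48], [0, 3, 5, 6, 8, 9, 11, 13, 14, 15, 17, 19, 21, 23, 27, 29, 30, 40], [1, 2, 5, 7, 9, 12, 21], [0, 5, 9, 10, 13, 14, 15, 16, 19, 21, 23, 24, 25, 26, 28, 29, 30, 33, 34, 40], [0, 1, 3, 5, 6, 8, 10, 11, 17, 23, 27, 28], [2, 3, 4, 5, 6, 11, 12, 13, 15, 17, 18, 19, 20, 23, 24, 25, 31, 32, 33, 34, 37, 40, 41, 42, 44, 46, 47, 48], [1, 5, 7, 8, 9, 10, 11, 12, 13, 14, 18, 21, 23, 25, 28, 32, 33, 34, 37, 41, 42, 43, 44, 46, 48], [2, 3, 6, 8, 9, 11, 12, 13, 15, 27, 28, 30], [], [2, 3, 5, 6, 8, 9, 10, 11, 12, 17, 21, 23, 27, 29, 31, 32], [0, 2, 6, 9, 21, 27, 28, 29, 30, 31, 33, 37, 38, 40, 41, 48], [0, 3, 5, 6, 8, 9, 11, 12, 13, 15, 19, 21, 29, 32, 33], [2, 5, 8, 10, 12, 15, 16, 17, 27, 29, 40], [1, 2, 3, 7, 9, 12, 21], [0, 2, 3, 4, 5, 7, 10, 15, 17, 18, 20, 24, 25, 26, 27, 28, 31, 32, 33, 37, 41, 42, 44, 46, 47,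 48], [1, 6, 8, 10, 11, 27, 28], [2, 3, 4, 5, 7, 9, 13, 14, 18, 19, 20, 21, 23, 25, 30, 31, 32, 33, 34, 37, 40, 41, 42, 44, 46, 47, 48], [2, 3, 5, 7, 10, 13, 15, 16, 17, 19, 23], [0, 3, 5, 6, 9, 10, 11, 12, 15, 17, 19, 21, 27, 31, 33, 38, 40, 42, 43, 47, 48], [1, 2, 3, 4, 7, 12, 19, 21, 28, 29, 38, 39, 40, 41], [2], [1, 2, 5, 6, 7, 11, 12, 13, 16, 18, 20, 22, 24, 25, 28, 31, 39, 41, 42, 45, 47, 48], [1, 3, 5, 6, 9, 10, 12, 14, 16, 17, 19, 21, 23, 27, 28, 29, 30, 37, 38, 41], [2, 4, 5, 8, 9, 11, 14, 17, 18, 19, 24, 25, 34, 43, 44, 46], [1, 3, 6, 7, 13, 14, 15, 16, 27, 28, 37, 38, 41], [0, 3, 4, 5, 6, 7, 11, 12, 16, 21, 25, 27, 34, 39, 41, 42, 43, 44, 46, 47, 48], [0, 2, 3, 6, 8, 10, 11, 12, 13, 14, 16, 19, 27, 28, 29, 30, 40], [2, 6, 8, 9, 10, 16, 17, 21, 28, 30, 39, 40, 41], [2, 7, 9, 12, 21], [1, 3, 4, 7, 10, 12, 13, 14, 16, 17, 21, 25, 26, 27, 28,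 33, 34, 38, 39, 41, 44, 45, 46], [0, 3, 5, 6, 8, 9, 11, 13, 14, 15, 17, 19, 21, 23, 27, 28, 30, 40], [], [0, 3, 5, 6, 8, 9, 11, 13, 14, 15, 17, 19, 21, 23, 27, 28, 29, 30, 40], [0, 1, 2, 5, 13, 14, 15, 16, 18, 19, 21, 23, 25, 27, 28, 32, 33, 34, 37, 39, 42, 43, 44, 46, 47, 48], [1, 6, 7, 9, 10, 12, 13, 14, 15, 19, 21, 27, 28, 37, 38, 41], [0, 2, 5, 14, 17, 19, 23, 40], [0, 3, 4, 8, 9, 10, 11, 14, 16, 28, 38, 40, 41], [0], [], [1, 3, 6, 7, 8, 9, 10, 13, 14, 15, 16, 17, 19, 21, 27, 28, 30, 40], [], [1, 2, 3, 5, 6, 10, 11, 13, 14, 15, 19, 23, 27, 28, 29, 37, 38, 41], [], [0, 1, 3, 5, 6, 9, 12, 15, 21, 27, 28, 29, 30, 37, 38, 41], [0, 1, 13, 14, 15, 29, 38, 40], []]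

/-- Words of the generators of a Sylow 3-subgroup. -/
def threeGens : List ℕ := [0x14743432464347423412347, 0x11247643254734342346741, 0x11432745643243564346342347546]

/-- Words of the fusing elements. -/
def threeFus : List ℕ := [0x157432143243743465347234532, 0x1564321434643274347434234623]

/-- The certificate. -/
def threeCert : Cert where
  P :=
    { p := 3
      n := 3
      powW := [[], [], []]
      cjW := [[], [[0]], [[0], [0, 1]]] }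
  gens := [18376645275856, 132578615247354, 133942035883927]
  gs := [140952440037735, 114143621711865]
  rows := [
    .fus 0 [[0], [0, 0, 1, 2, 2]] [[0], [1, 1, 2]] [1, 0] [0, 1],
    .fus 0 [[0], [0, 0, 1, 2, 2]] [[0], [1, 1, 2]] [1, 1, 1] [],
    .fus 0 [[1, 1, 2], [0, 0, 1, 2, 2]] [[0, 0, 1, 2, 2], [1, 1, 2]] [1, 0] [0, 1],
    .fus 1 [[0, 1], [0, 1, 1]] [[0, 0, 1, 2, 2], [0, 0, 1, 1, 2]] [1, 0] [0, 1],
    .fus 1 [[0, 1], [0, 1, 1]] [[0, 0, 1, 2, 2], [0, 0, 1, 1, 2]] [0, 0, 0] []]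
  beta := [[5, 5], [], []]
  combo := [[2], [1, 4, 4], [0, 2, 2, 3, 3], [0, 3, 4, 4], [2, 2, 3, 3], []]

/-- Words of the generators of a Sylow 5-subgroup. -/
def fiveGens : List ℕ := [0x11464327434564374234534234732, 0x1137643247643743243463423463121]

/-- Words of the fusing elements. -/
def fiveFus : List ℕ := [0x14543432164734342345341, 0x11643254764324347647234234751]

/-- The certificate. -/
def fiveCert : Cert where
  P :=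
    { p := 5
      n := 2
      powW := [[], []]
      cjW := [[], [[0]]] }
  gens := [89433286594676, 36379130775526]
  gs := [68814778168499, 92500291626108]
  rows := [
    .fus 0 [[0, 1, 1, 1, 1]] [[0, 0, 0, 1]] [0, 0, 0, 0, 0] [],
    .fus 0 [[0, 1], [0, 0, 0, 0, 1, 1]] [[0, 0, 0, 0, 1, 1, 1, 1], [1, 1, 1]] [1, 0] [0, 1],
    .fus 1 [[1]] [[0, 0]] [0, 0, 0, 0, 0] []]
  beta := [[], []]
  combo := [[0, 2, 2], [0, 0, 2, 2, 2], [1, 1, 1, 1]]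

/-- Words of the generators of a Sylow 7-subgroup. -/
def sevenGens : List ℕ := [0x132436432543264374653423464345, 0x1347643214347643462343476231, 0x1474325432474342342345423]

/-- Words of the fusing elements. -/
def sevenFus : List ℕ := [0x1321264343264347234523462]

/-- The certificate. -/
def sevenCert : Cert where
  P :=
    { p := 7
      n := 3
      powW := [[], [], []]
      cjW := [[], [[0]], [[0], [0, 0, 0, 1]]] }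
  gens := [45364991424359, 31080551188370, 89269588178692]
  gs := [39884460373695]
  rows := [
    .fus 0 [[0, 1, 1, 2, 2, 2, 2]] [[0, 0, 1, 1, 1, 1, 2]] [0, 0, 0, 0, 0, 0, 0] [],
    .fus 0 [[0, 0, 0, 0, 0, 1, 1, 1, 1, 1, 2, 2, 2]] [[0, 0, 0, 0, 0, 0, 1, 1, 1, 2, 2, 2, 2, 2, 2]] [0, 0, 0, 0, 0, 0, 0] [],
    .fus 0 [[0, 0, 0, 0, 1, 2]] [[0, 0, 0, 0, 0, 1, 1]] [0, 0, 0, 0, 0, 0, 0] [],
    .fus 0 [[0, 0, 0, 0, 0, 0, 1, 1, 1, 2, 2, 2, 2], [0, 0, 0, 0, 0, 1, 1]] [[0, 1, 1, 1, 1, 1, 1, 2, 2, 2, 2], [0, 0, 1, 1, 1, 1, 2, 2, 2, 2, 2, 2]] [1, 0, 0, 1] [0, 1, 1, 0],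
    .fus 0 [[0, 1, 1, 1, 1, 1, 2, 2, 2, 2], [0, 1]] [[0, 0, 0, 1, 1, 1, 2, 2, 2], [0, 1, 1, 2, 2, 2]] [1, 0, 0, 1] [0, 1, 1, 0]]
  beta := [[5, 5], [], []]
  combo := [[0, 0, 0, 0, 1, 1, 1, 1], [0, 0, 0, 1, 1, 1, 1, 2, 2, 2], [0, 0, 0, 0, 1, 1, 1, 1, 3, 3, 3, 3, 3, 4, 4, 4, 4, 4], [0, 0, 0, 0, 0, 0, 2, 2], [0, 1, 3, 3, 3, 3, 3, 3, 4, 4, 4, 4], []]

end Cfsg.Agent.SporOut.He
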