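import Cfsg.Agent.SporOut.SiftCyc
import Cfsg.Agent.SporOut.RuData

/-!
Seven involutory permutations of 4060 points generating the Rudvalis group, as a frame for sifting, with
the finite checks about its automorphisms.
-/

set_option autoImplicit false
set_option maxRecDepth 100000

namespace Cfsg.Agent.SporOut.Ru

open Cfsg.Agent.CosetCert

/-- The tables of the letters, in order. -/
def tables : List PTree := [letT1, letT2, letT3, letT4, letT5, letT6, letT7]

/-- Action of a letter. -/
noncomputable def look (l i : ℕ) : ℕ := (tables.getD (Nat.sub l 1) (PTree.leaf 0)).get 16 i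

/-- One point of one letter. -/
noncomputable def lookOK (l i : ℕ) : Bool := Nat.blt (look l i) 4060 && Nat.beq (look l (look l i)) i

theorem look_table : ∀ l : Fin 7, allB (fun i => Nat.ble 4060 i || lookOK (l.val + 1) i) 12 0 = true := by
  decide +kernel

theorem look_spec {l : ℕ} (h1 : 1 ≤ l) (h2 : l ≤ 7) (i : Fin 4060) :
    look l i < 4060 ∧ look l (look l i) = i := by
  have h := allB_spec_zero (look_table ⟨l - 1, by omega⟩) (by norm_num : 4060 ≤ 2 ^ 12) i.2
  simp only [show l - 1 + 1 = l by omega, Bool.or_eq_true, lookOK, Bool.and_eq_true] at h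
  rcases h with h | ⟨a, b⟩
  · exact absurd (Nat.le_of_ble_eq_true h) (not_le.2 i.2)
  · exact ⟨Nat.le_of_ble_eq_true a, Nat.eq_of_beq_eq_true b⟩

/-- The permutations of the letters. -/
noncomputable def sig (l : ℕ) : Equiv.Perm (Fin 4060) :=
  if h : 1 ≤ l ∧ l ≤ 7 then
    { toFun := fun i => ⟨look l i, (look_spec h.1 h.2 i).1⟩
      invFun := fun i => ⟨look l i, (look_spec h.1 h.2 i).1⟩
      left_inv := fun i => Fin.ext (look_spec h.1 h.2 i).2
      right_inv := fun i => Fin.ext (look_spec h.1 h.2 i).2 }
  else 1

theorem sig_apply {l : ℕ} (h1 : 1 ≤ l) (h2 : l ≤ 7) (i : Fin 4060) : (sig l i : ℕ) = look l i := by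
  rw [sig, dif_pos ⟨h1, h2⟩]
  rfl

/-- The group generated by the letters. -/
noncomputable def K : Subgroup (Equiv.Perm (Fin 4060)) :=
  Subgroup.closure (Set.range fun l : Fin 7 => sig (l.val + 1))

theorem sig_mem (l : ℕ) : sig l ∈ K := by
  by_cases h : 1 ≤ l ∧ l ≤ 7
  · exact Subgroup.subset_closure ⟨⟨l - 1, by omega⟩, by simp only [show l - 1 + 1 = l by omega]⟩
  · rw [sig, dif_neg h]; exact one_mem _

/-- The frame. -/
noncomputable def frame : Frame 4060 where
  T := look
  nL := 7
  σ := sig
  K := K

theorem frame_valid : frame.Valid where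
  spec _ h1 h2 i := sig_apply h1 h2 i
  mem l _ _ := sig_mem l

/-- First chain. -/
def chainA : Chain :=
  ⟨baseA.1, baseA.2.1, baseA.2.2.1, baseA.2.2.2, levA0, levA1, levA2, levA3⟩

/-- Second chain. -/
def chainB : Chain :=
  ⟨baseB.1, baseB.2.1, baseB.2.2.1, baseB.2.2.2, levB0, levB1, levB2, levB3⟩

theorem of_allB {f : ℕ → Bool} (h : allB (fun y => Nat.ble 4060 y || f y) 12 0 = true) :
    ∀ y < 4060, f y = true := fun y hy => by
  have h1 := allB_spec_zero h (by norm_num) hy
  rw [Bool.or_eq_true] at h1
  rcases h1 with h1 | h1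
  · exact absurd (Nat.le_of_ble_eq_true h1) (not_le.2 hy)
  · exact h1

theorem levA0_ok : allB (fun y => Nat.ble 4060 y || levOK frame levA0 chainA.b0 [] y) 12 0 = true := by
  decide +kernel

theorem levA1_ok : allB (fun y => Nat.ble 4060 y ||
    levOK frame levA1 chainA.b1 [chainA.b0] y) 12 0 = true := by
  decide +kernel

theorem levA2_ok : allB (fun y => Nat.ble 4060 y ||
    levOK frame levA2 chainA.b2 [chainA.b0, chainA.b1] y) 12 0 = true := by
  decide +kernel

theorem levA3_ok : allB (fun y => Nat.ble 4060 y ||
    levOK frame levA3 chainA.b3 [chainA.b0, chainA.b1, chainA.b2] y) 12 0 = true := by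
  decide +kernel

theorem levB0_ok : allB (fun y => Nat.ble 4060 y || levOK frame levB0 chainB.b0 [] y) 12 0 = true := by
  decide +kernel

theorem levB1_ok : allB (fun y => Nat.ble 4060 y ||
    levOK frame levB1 chainB.b1 [chainB.b0] y) 12 0 = true := by
  decide +kernel

theorem levB2_ok : allB (fun y => Nat.ble 4060 y ||
    levOK frame levB2 chainB.b2 [chainB.b0, chainB.b1] y) 12 0 = true := by
  decide +kernel

theorem levB3_ok : allB (fun y => Nat.ble 4060 y ||
    levOK frame levB3 chainB.b3 [chainB.b0, chainB.b1, chainB.b2] y) 12 0 = true := by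
  decide +kernel

theorem sizesA : levSize 4060 levA0 * (levSize 4060 levA1 * (levSize 4060 levA2 * levSize 4060 levA3))
    = 145926144000 := by
  decide +kernel

theorem sizesB : levSize 4060 levB0 * (levSize 4060 levB1 * (levSize 4060 levB2 * levSize 4060 levB3))
    = 145926144000 := by
  decide +kernel

theorem chainA_valid (hK : Nat.card K = 145926144000) : chainA.Valid frame where
  lt0 := by decide +kernel
  lt1 := by decide +kernel
  lt2 := by decide +kernel
  lt3 := by decide +kernel
  lev0 := of_allB levA0_ok
  lev1 := of_allB levA1_ok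
  lev2 := of_allB levA2_ok
  lev3 := of_allB levA3_ok
  card := hK.trans sizesA.symm

theorem chainB_valid (hK : Nat.card K = 145926144000) : chainB.Valid frame where
  lt0 := by decide +kernel
  lt1 := by decide +kernel
  lt2 := by decide +kernel
  lt3 := by decide +kernel
  lev0 := of_allB levB0_ok
  lev1 := of_allB levB1_ok
  lev2 := of_allB levB2_ok
  lev3 := of_allB levB3_ok
  card := hK.trans sizesB.symm

theorem searchX_ok : allB (fun y => Nat.ble 4060 y ||
    cycOK frame chainA codeX codeX4 candH qsX y) 12 0 = true := by
  decide +kernel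

theorem searchZ_ok : allB (fun y => Nat.ble 4060 y ||
    cycOK frame chainB codeH codeH candZ qsZ y) 12 0 = true := by
  decide +kernel

/-- A product of codes. -/
noncomputable def runL (ws : List ℕ) (i : ℕ) : ℕ := ws.foldr (fun c j => frame.run c j) i

/-- All codes are in range. -/
noncomputable def okL (ws : List ℕ) : Bool := ws.all fun c => frame.ok c

/-- The points of the first base. -/
def basePts : List ℕ := [chainA.b0, chainA.b1, chainA.b2, chainA.b3]

/-- Two products agree on the base. -/
noncomputable def sameW (ws vs : List ℕ) : Bool :=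
  okL ws && (okL vs && (basePts.all fun p => Nat.beq (runL ws p) (runL vs p)))

/-- A product moves some base point. -/
noncomputable def movesW (ws : List ℕ) : Bool :=
  okL ws && (basePts.any fun p => !Nat.beq (runL ws p) p)

/-- The substituted word of a candidate. -/
noncomputable def substW (e : Bool) (k : ℕ) (r : List ℕ) : List ℕ :=
  (r.flatMap fun i =>
    [bif e then [codeX, codeX] else [codeX], bif e then [codeXI, codeXI] else [codeXI], [codeH],
      [codeHI], [wordsZ.getD k 1], [revF 96 (wordsZ.getD k 1) 1]].getD i []).reverse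

theorem element_facts :
    sameW (List.replicate 29 codeX) [] = true ∧ movesW [codeX] = true ∧
    sameW [codeXI, codeX] [] = true ∧ sameW [codeHI, codeH] [] = true ∧
    sameW [codeX4] [codeX, codeX, codeX, codeX] = true ∧ sameW [codeX2] [codeX, codeX] = true ∧
    sameW [codeH, codeX] [codeX4, codeH] = true ∧
    sameW [wordsZ.getD idxZ 1, codeH] [codeH, wordsZ.getD idxZ 1] = true := by
  decide +kernel

theorem powX_table : ∀ i : Fin 29,
    sameW [powX.getD i.val 1] (List.replicate i.val codeX) = true := by
  decide +kernel

theorem toClass_table : ∀ i : Fin 28,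
    (toClass.getD i.val (false, 1)).1 = true ∧
      sameW [(toClass.getD i.val (false, 1)).2, powX.getD (i.val + 1) 1]
        [codeX2, (toClass.getD i.val (false, 1)).2] = true ∨
    (toClass.getD i.val (false, 1)).1 = false ∧
      sameW [(toClass.getD i.val (false, 1)).2, powX.getD (i.val + 1) 1]
        [codeX, (toClass.getD i.val (false, 1)).2] = true := by
  decide +kernel

theorem conjH_table : ∀ j : Fin 29,
    sameW [conjH.getD j.val 1, powX.getD j.val 1] [powX.getD j.val 1, codeH] = true ∧
    candH.getD j.val (0, 0, 0, 0) = (frame.run (conjH.getD j.val 1) chainA.b0,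
      frame.run (conjH.getD j.val 1) chainA.b1, frame.run (conjH.getD j.val 1) chainA.b2,
      frame.run (conjH.getD j.val 1) chainA.b3) := by
  decide +kernel

theorem conjH_ok : ∀ j : Fin 29, frame.ok (conjH.getD j.val 1) = true := by decide +kernel

theorem cand_length : candH.length = 29 ∧ candZ.length = 28 := by decide +kernel

theorem wordsZ_table : ∀ k : Fin 28, frame.ok (wordsZ.getD k.val 1) = true ∧
    candZ.getD k.val (0, 0, 0, 0) = (frame.run (wordsZ.getD k.val 1) chainB.b0,
      frame.run (wordsZ.getD k.val 1) chainB.b1, frame.run (wordsZ.getD k.val 1) chainB.b2,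
      frame.run (wordsZ.getD k.val 1) chainB.b3) ∧
    sameW [revF 96 (wordsZ.getD k.val 1) 1, wordsZ.getD k.val 1] [] = true := by
  decide +kernel

theorem relOne_table : ∀ k : Fin 28, k.val = idxZ ∨
    (sameW (substW false idxZ (relWordsOne.getD k.val [])) [] = true ∧
      movesW (substW false k.val (relWordsOne.getD k.val [])) = true ∧
      (relWordsOne.getD k.val []).all (fun i => Nat.blt i 6) = true) := by
  decide +kernel

theorem relTwo_table : ∀ k : Fin 28,
    (sameW (substW false idxZ (relWordsTwo.getD k.val [])) [] = true ∧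
      movesW (substW true k.val (relWordsTwo.getD k.val [])) = true ∧
      (relWordsTwo.getD k.val []).all (fun i => Nat.blt i 6) = true) := by
  decide +kernel

theorem gen_table : ∀ l : Fin 7,
    sameW [17 + l.val] (substW false idxZ (genWords.getD l.val [])) = true ∧
      (genWords.getD l.val []).all (fun i => Nat.blt i 6) = true := by
  decide +kernel

end Cfsg.Agent.SporOut.Ru
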