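import Cfsg.Agent.CosetCert.Basic

/-!
# Certified sifting through a base of four points

A permutation group of known order with a table of words for the four levels of a base: every element is
determined by the images of the base, and the solutions `g` of `g s = t g` can be certified by a finite search.
-/

set_option autoImplicit false

namespace Cfsg.Agent.SporOut

open Cfsg.Agent.CosetCert

/-- Action of a packed word (hexadecimal digits, lowest first, closed by a digit `1`). -/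
noncomputable def runF (T : ℕ → ℕ → ℕ) (f : ℕ) : ℕ → ℕ → ℕ :=
  Nat.rec (motive := fun _ => ℕ → ℕ → ℕ) (fun _ i => i)
    (fun _ ih n i => cond (Nat.ble n 1) i (ih (Nat.div n 16) (T (Nat.mod n 16) i))) f

/-- The letters of a packed word are in range. -/
noncomputable def okF (nL : ℕ) (f : ℕ) : ℕ → Bool :=
  Nat.rec (motive := fun _ => ℕ → Bool) (fun n => Nat.beq n 1)
    (fun _ ih n => Nat.beq n 1 || (Nat.ble 1 (Nat.mod n 16) && (Nat.ble (Nat.mod n 16) nL &&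
      ih (Nat.div n 16)))) f

/-- Value of a packed word. -/
def valF {G : Type*} [Group G] (σ : ℕ → G) : ℕ → ℕ → G
  | 0, _ => 1
  | f + 1, n => if n ≤ 1 then 1 else valF σ f (n / 16) * σ (n % 16)

/-- Reversal of a packed word. -/
noncomputable def revF (f : ℕ) : ℕ → ℕ → ℕ :=
  Nat.rec (motive := fun _ => ℕ → ℕ → ℕ) (fun _ acc => acc)
    (fun _ ih n acc => cond (Nat.ble n 1) acc (ih (Nat.div n 16) (Nat.add (Nat.mul acc 16) (Nat.mod n 16)))) f

/-- Number of indices below `n` with a property. -/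
noncomputable def cnt (f : ℕ → Bool) (n : ℕ) : ℕ :=
  Nat.rec (motive := fun _ => ℕ) 0 (fun k ih => cond (f k) (Nat.add ih 1) ih) n

theorem cnt_eq (f : ℕ → Bool) : ∀ n, cnt f n = ((Finset.range n).filter fun i => f i = true).card
  | 0 => rfl
  | n + 1 => by
    have e : cnt f (n + 1) = cond (f n) (cnt f n + 1) (cnt f n) := rfl
    rw [e, cnt_eq f n, Finset.range_add_one, Finset.filter_insert]
    cases h : f n <;> simp

/-- A permutation group given through tables of letters. -/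
structure Frame (N : ℕ) where
  /-- action of letters on numbers -/
  T : ℕ → ℕ → ℕ
  /-- number of letters -/
  nL : ℕ
  /-- the permutations of the letters -/
  σ : ℕ → Equiv.Perm (Fin N)
  /-- the group -/
  K : Subgroup (Equiv.Perm (Fin N))

/-- The laws of a frame. -/
structure Frame.Valid {N : ℕ} (F : Frame N) : Prop where
  spec : ∀ l, 1 ≤ l → l ≤ F.nL → ∀ i, (F.σ l i : ℕ) = F.T l i
  mem : ∀ l, 1 ≤ l → l ≤ F.nL → F.σ l ∈ F.K

variable {N : ℕ}

namespace Frame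

variable (F : Frame N)

/-- Action of a code. -/
noncomputable abbrev run (c : ℕ) : ℕ → ℕ := runF F.T 96 c

/-- Validity of a code. -/
noncomputable abbrev ok (c : ℕ) : Bool := okF F.nL 96 c

/-- Value of a code. -/
abbrev val (c : ℕ) : Equiv.Perm (Fin N) := valF F.σ 96 c

variable {F}

theorem valF_spec (hF : F.Valid) : ∀ f c, okF F.nL f c = true →
    valF F.σ f c ∈ F.K ∧ ∀ i : Fin N, (valF F.σ f c i : ℕ) = runF F.T f c i := by
  intro f
  induction f with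
  | zero => intro c _; exact ⟨F.K.one_mem, fun i => rfl⟩
  | succ f ih =>
    intro c hc
    have e : okF F.nL (f + 1) c = (Nat.beq c 1 || (Nat.ble 1 (c % 16) && (Nat.ble (c % 16) F.nL &&
      okF F.nL f (c / 16)))) := rfl
    have er : ∀ i, runF F.T (f + 1) c i =
        cond (Nat.ble c 1) i (runF F.T f (c / 16) (F.T (c % 16) i)) := fun i => rfl
    rw [e, Bool.or_eq_true] at hc
    by_cases h1 : c ≤ 1
    · refine ⟨by rw [valF, if_pos h1]; exact F.K.one_mem, fun i => ?_⟩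
      rw [valF, if_pos h1, er, Nat.ble_eq.mpr h1]
      rfl
    · rcases hc with hc | hc
      · exact absurd (Nat.eq_of_beq_eq_true hc).le h1
      simp only [Bool.and_eq_true, Nat.ble_eq] at hc
      obtain ⟨ha, hb, hc⟩ := hc
      obtain ⟨hm, hr⟩ := ih _ hc
      refine ⟨by rw [valF, if_neg h1]; exact F.K.mul_mem hm (hF.mem _ ha hb), fun i => ?_⟩
      have hb' : Nat.ble c 1 = false := by
        rcases h : Nat.ble c 1
        · rfl
        · exact absurd (Nat.le_of_ble_eq_true h) h1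
      rw [valF, if_neg h1, Equiv.Perm.mul_apply, hr, hF.spec _ ha hb, er, hb']
      rfl

theorem val_mem (hF : F.Valid) {c : ℕ} (h : F.ok c = true) : F.val c ∈ F.K := (valF_spec hF _ _ h).1

theorem val_apply (hF : F.Valid) {c : ℕ} (h : F.ok c = true) (i : Fin N) :
    (F.val c i : ℕ) = F.run c i := (valF_spec hF _ _ h).2 i

theorem run_lt (hF : F.Valid) {c : ℕ} (h : F.ok c = true) {i : ℕ} (hi : i < N) : F.run c i < N := by
  have := val_apply hF h ⟨i, hi⟩
  simp only at this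
  rw [← this]
  exact (F.val c ⟨i, hi⟩).2

theorem run_inj (hF : F.Valid) {c : ℕ} (h : F.ok c = true) {i j : ℕ} (hi : i < N) (hj : j < N)
    (he : F.run c i = F.run c j) : i = j := by
  have h1 := val_apply hF h ⟨i, hi⟩
  have h2 := val_apply hF h ⟨j, hj⟩
  simp only at h1 h2
  exact congrArg Fin.val ((F.val c).injective (Fin.ext (h1.trans (he.trans h2.symm))))

end Frame

/-- A base of four points with words for the orbits. -/
structure Chain where
  /-- first point -/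
  b0 : ℕ
  /-- second point -/
  b1 : ℕ
  /-- third point -/
  b2 : ℕ
  /-- fourth point -/
  b3 : ℕ
  /-- words of the first level, `0` off the orbit -/
  t0 : PTree
  /-- words of the second level -/
  t1 : PTree
  /-- words of the third level -/
  t2 : PTree
  /-- words of the fourth level -/
  t3 : PTree

/-- One word of a level. -/
noncomputable def levOK (F : Frame N) (t : PTree) (b : ℕ) (prev : List ℕ) (y : ℕ) : Bool :=
  cond (Nat.beq (t.get 160 y) 0) true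
    (F.ok (t.get 160 y) && (Nat.beq (F.run (t.get 160 y) b) y &&
      prev.all fun p => Nat.beq (F.run (t.get 160 y) p) p))

/-- Size of a level. -/
noncomputable def levSize (N : ℕ) (t : PTree) : ℕ := cnt (fun y => !Nat.beq (t.get 160 y) 0) N

/-- The checks of a chain. -/
structure Chain.Valid (C : Chain) (F : Frame N) : Prop where
  lt0 : C.b0 < N
  lt1 : C.b1 < N
  lt2 : C.b2 < N
  lt3 : C.b3 < N
  lev0 : ∀ y < N, levOK F C.t0 C.b0 [] y = true
  lev1 : ∀ y < N, levOK F C.t1 C.b1 [C.b0] y = true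
  lev2 : ∀ y < N, levOK F C.t2 C.b2 [C.b0, C.b1] y = true
  lev3 : ∀ y < N, levOK F C.t3 C.b3 [C.b0, C.b1, C.b2] y = true
  card : Nat.card F.K = levSize N C.t0 * (levSize N C.t1 * (levSize N C.t2 * levSize N C.t3))

theorem not_beq_zero {a : ℕ} : (!Nat.beq a 0) = true ↔ a ≠ 0 := by
  rw [Bool.not_eq_true']
  exact ⟨fun h e => by subst e; exact Bool.noConfusion h, fun h => by
    rcases h' : Nat.beq a 0
    · rfl
    · exact absurd (Nat.eq_of_beq_eq_true h') h⟩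

/-- The points of a level. -/
abbrev Lev (N : ℕ) (t : PTree) : Type := {y : Fin N // (t.get 160 y) ≠ 0}

theorem card_lev (N : ℕ) (t : PTree) : Nat.card (Lev N t) = levSize N t := by
  classical
  rw [levSize, cnt_eq, Nat.card_eq_fintype_card, Fintype.card_subtype]
  refine Finset.card_bij (fun y _ => (y : ℕ)) (fun y hy => ?_) (fun _ _ _ _ h => Fin.ext h)
    (fun y hy => ?_)
  · simp only [Finset.mem_filter, Finset.mem_univ, true_and] at hy
    simp only [Finset.mem_filter, Finset.mem_range, y.2, true_and]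
    exact not_beq_zero.2 hy
  · simp only [Finset.mem_filter, Finset.mem_range] at hy
    refine ⟨⟨y, hy.1⟩, ?_, rfl⟩
    simp only [Finset.mem_filter, Finset.mem_univ, true_and]
    exact not_beq_zero.1 hy.2

theorem levOK_spec {F : Frame N} (hF : F.Valid) {t : PTree} {b : ℕ} {prev : List ℕ} {y : ℕ}
    (h : levOK F t b prev y = true) (hy : t.get 160 y ≠ 0) (hb : b < N) :
    F.ok (t.get 160 y) = true ∧ (F.val (t.get 160 y) ⟨b, hb⟩ : ℕ) = y ∧
      ∀ p ∈ prev, ∀ hp : p < N, F.val (t.get 160 y) ⟨p, hp⟩ = ⟨p, hp⟩ := by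
  have hne : Nat.beq (t.get 160 y) 0 = false := by
    rcases h' : Nat.beq (t.get 160 y) 0
    · rfl
    · exact absurd (Nat.eq_of_beq_eq_true h') hy
  rw [levOK, hne, cond_false] at h
  simp only [Bool.and_eq_true, List.all_eq_true] at h
  refine ⟨h.1, ?_, fun p hp hpN => Fin.ext ?_⟩
  · rw [Frame.val_apply hF h.1]
    exact Nat.eq_of_beq_eq_true h.2.1
  · rw [Frame.val_apply hF h.1]
    exact Nat.eq_of_beq_eq_true (h.2.2 p hp)

/-- The element of four orbit points. -/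
noncomputable def Chain.elt (C : Chain) (F : Frame N)
    (r : Lev N C.t0 × Lev N C.t1 × Lev N C.t2 × Lev N C.t3) : Equiv.Perm (Fin N) :=
  F.val (C.t0.get 160 r.1.1) * (F.val (C.t1.get 160 r.2.1.1) *
    (F.val (C.t2.get 160 r.2.2.1.1) * F.val (C.t3.get 160 r.2.2.2.1)))

namespace Chain.Valid

variable {C : Chain} {F : Frame N}

section
variable (hC : C.Valid F) (hF : F.Valid)
include hC hF

theorem images (r : Lev N C.t0 × Lev N C.t1 × Lev N C.t2 × Lev N C.t3) :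
    C.elt F r ⟨C.b0, hC.lt0⟩ = r.1.1 ∧
    C.elt F r ⟨C.b1, hC.lt1⟩ = F.val (C.t0.get 160 r.1.1) r.2.1.1 ∧
    C.elt F r ⟨C.b2, hC.lt2⟩ =
      F.val (C.t0.get 160 r.1.1) (F.val (C.t1.get 160 r.2.1.1) r.2.2.1.1) ∧
    C.elt F r ⟨C.b3, hC.lt3⟩ = F.val (C.t0.get 160 r.1.1)
      (F.val (C.t1.get 160 r.2.1.1) (F.val (C.t2.get 160 r.2.2.1.1) r.2.2.2.1)) := by
  obtain ⟨⟨y0, h0⟩, ⟨y1, h1⟩, ⟨y2, h2⟩, ⟨y3, h3⟩⟩ := r
  obtain ⟨-, e0, -⟩ := levOK_spec hF (hC.lev0 _ y0.2) h0 hC.lt0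
  obtain ⟨-, e1, f1⟩ := levOK_spec hF (hC.lev1 _ y1.2) h1 hC.lt1
  obtain ⟨-, e2, f2⟩ := levOK_spec hF (hC.lev2 _ y2.2) h2 hC.lt2
  obtain ⟨-, e3, f3⟩ := levOK_spec hF (hC.lev3 _ y3.2) h3 hC.lt3
  have E0 := Fin.ext (a := F.val _ _) e0
  have E1 := Fin.ext (a := F.val _ _) e1
  have E2 := Fin.ext (a := F.val _ _) e2
  have E3 := Fin.ext (a := F.val _ _) e3
  refine ⟨?_, ?_, ?_, ?_⟩ <;> simp only [Chain.elt, Equiv.Perm.mul_apply]
  · rw [f3 _ (by simp) hC.lt0, f2 _ (by simp) hC.lt0, f1 _ (by simp) hC.lt0, E0]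
  · rw [f3 _ (by simp) hC.lt1, f2 _ (by simp) hC.lt1, E1]
  · rw [f3 _ (by simp) hC.lt2, E2]
  · rw [E3]

theorem elt_injective : Function.Injective (C.elt F) := by
  intro r r' h
  obtain ⟨a0, a1, a2, a3⟩ := hC.images hF r
  obtain ⟨b0, b1, b2, b3⟩ := hC.images hF r'
  rw [h] at a0 a1 a2 a3
  rw [b0] at a0
  rw [b1] at a1
  rw [b2] at a2
  rw [b3] at a3
  obtain ⟨r0, r1, r2, r3⟩ := r
  obtain ⟨s0, s1, s2, s3⟩ := r'
  simp only at a0 a1 a2 a3
  obtain rfl := (Subtype.ext a0 : s0 = r0)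
  obtain rfl := (Subtype.ext ((F.val _).injective a1) : s1 = r1)
  obtain rfl := (Subtype.ext ((F.val _).injective ((F.val _).injective a2)) : s2 = r2)
  obtain rfl := (Subtype.ext ((F.val _).injective ((F.val _).injective ((F.val _).injective a3))) :
    s3 = r3)
  rfl

/-- Every element of the group is a product of four words of the levels. -/
theorem exists_elt {g : Equiv.Perm (Fin N)} (hg : g ∈ F.K) : ∃ r, C.elt F r = g := by
  have hmem : ∀ r, C.elt F r ∈ F.K := fun r =>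
    F.K.mul_mem (Frame.val_mem hF (levOK_spec hF (hC.lev0 _ r.1.1.2) r.1.2 hC.lt0).1)
      (F.K.mul_mem (Frame.val_mem hF (levOK_spec hF (hC.lev1 _ r.2.1.1.2) r.2.1.2 hC.lt1).1)
        (F.K.mul_mem (Frame.val_mem hF (levOK_spec hF (hC.lev2 _ r.2.2.1.1.2) r.2.2.1.2 hC.lt2).1)
          (Frame.val_mem hF (levOK_spec hF (hC.lev3 _ r.2.2.2.1.2) r.2.2.2.2 hC.lt3).1)))
  let Φ : (Lev N C.t0 × Lev N C.t1 × Lev N C.t2 × Lev N C.t3) → F.K := fun r => ⟨_, hmem r⟩
  have hb : Function.Bijective Φ := (Nat.bijective_iff_injective_and_card _).2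
    ⟨fun r r' h => hC.elt_injective hF (congrArg Subtype.val h), by
      rw [Nat.card_prod, Nat.card_prod, Nat.card_prod, card_lev, card_lev, card_lev, card_lev, hC.card]⟩
  obtain ⟨r, hr⟩ := hb.2 ⟨g, hg⟩
  exact ⟨r, congrArg Subtype.val hr⟩

/-- An element is determined by the images of the base. -/
theorem ext {g g' : Equiv.Perm (Fin N)} (hg : g ∈ F.K) (hg' : g' ∈ F.K)
    (h0 : g ⟨C.b0, hC.lt0⟩ = g' ⟨C.b0, hC.lt0⟩) (h1 : g ⟨C.b1, hC.lt1⟩ = g' ⟨C.b1, hC.lt1⟩)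
    (h2 : g ⟨C.b2, hC.lt2⟩ = g' ⟨C.b2, hC.lt2⟩) (h3 : g ⟨C.b3, hC.lt3⟩ = g' ⟨C.b3, hC.lt3⟩) :
    g = g' := by
  obtain ⟨r, rfl⟩ := hC.exists_elt hF hg
  obtain ⟨r', rfl⟩ := hC.exists_elt hF hg'
  obtain ⟨a0, a1, a2, a3⟩ := hC.images hF r
  obtain ⟨b0, b1, b2, b3⟩ := hC.images hF r'
  rw [a0, b0] at h0
  rw [a1, b1] at h1
  rw [a2, b2] at h2
  rw [a3, b3] at h3
  obtain ⟨r0, r1, r2, r3⟩ := r
  obtain ⟨s0, s1, s2, s3⟩ := r'
  simp only at h0 h1 h2 h3
  obtain rfl := (Subtype.ext h0 : r0 = s0)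
  obtain rfl := (Subtype.ext ((F.val _).injective h1) : r1 = s1)
  obtain rfl := (Subtype.ext ((F.val _).injective ((F.val _).injective h2)) : r2 = s2)
  obtain rfl := (Subtype.ext ((F.val _).injective ((F.val _).injective ((F.val _).injective h3))) :
    r3 = s3)
  rfl

end

end Chain.Valid

section Search

variable (F : Frame N) (C : Chain)

/-- Same four points. -/
noncomputable def sameQ (a : ℕ × ℕ × ℕ × ℕ) (j0 j1 j2 j3 : ℕ) : Bool :=
  Nat.beq a.1 j0 && (Nat.beq a.2.1 j1 && (Nat.beq a.2.2.1 j2 && Nat.beq a.2.2.2 j3))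

/-- Leaf of the search. -/
noncomputable def leafOK (s t : ℕ) (L : List (ℕ × ℕ × ℕ × ℕ)) (qs : List ℕ)
    (c0 c1 c2 c3 y0 j1 j2 j3 : ℕ) : Bool :=
  (L.any fun a => sameQ a y0 j1 j2 j3) || qs.any fun q =>
    !Nat.beq (F.run c0 (F.run c1 (F.run c2 (F.run c3 (F.run s q)))))
      (F.run t (F.run c0 (F.run c1 (F.run c2 (F.run c3 q)))))

/-- Fourth level of the search. -/
noncomputable def step3 (s t : ℕ) (L : List (ℕ × ℕ × ℕ × ℕ)) (qs : List ℕ)
    (c0 c1 c2 y0 j1 j2 j3 y3 : ℕ) : Bool :=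
  Nat.blt y3 N && (Nat.beq (F.run c0 (F.run c1 (F.run c2 y3))) j3 &&
    (Nat.beq (C.t3.get 160 y3) 0 || leafOK F s t L qs c0 c1 c2 (C.t3.get 160 y3) y0 j1 j2 j3))

/-- Third level of the search. -/
noncomputable def step2 (s t : ℕ) (L : List (ℕ × ℕ × ℕ × ℕ)) (qs : List ℕ)
    (c0 c1 y0 j1 j2 y2 : ℕ) : Bool :=
  Nat.blt y2 N && (Nat.beq (F.run c0 (F.run c1 y2)) j2 &&
    (Nat.beq (C.t2.get 160 y2) 0 || step3 F C s t L qs c0 c1 (C.t2.get 160 y2) y0 j1 j2 (F.run t j2)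
      (F.run (revF 96 (C.t2.get 160 y2) 1) (F.run (revF 96 c1 1) (F.run (revF 96 c0 1) (F.run t j2))))))

/-- Second level of the search. -/
noncomputable def step1 (s t : ℕ) (L : List (ℕ × ℕ × ℕ × ℕ)) (qs : List ℕ)
    (c0 y0 y1 : ℕ) : Bool :=
  Nat.beq (C.t1.get 160 y1) 0 || step2 F C s t L qs c0 (C.t1.get 160 y1) y0 (F.run c0 y1)
    (F.run t (F.run c0 y1))
    (F.run (revF 96 (C.t1.get 160 y1) 1) (F.run (revF 96 c0 1) (F.run t (F.run c0 y1))))

/-- The search for the solutions of `g s = t g` over one image of the first point. -/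
noncomputable def searchOK (d : ℕ) (s t : ℕ) (L : List (ℕ × ℕ × ℕ × ℕ)) (qs : List ℕ) (y0 : ℕ) : Bool :=
  Nat.beq (C.t0.get 160 y0) 0 || (!Nat.beq (F.run t y0) y0 ||
    allB (fun y1 => Nat.ble N y1 || step1 F C s t L qs (C.t0.get 160 y0) y0 y1) d 0)

variable {F C}

/-- All solutions of `g s = t g` are in the list. -/
theorem search_sound (hC : C.Valid F) (hF : F.Valid) {d s t : ℕ} {L : List (ℕ × ℕ × ℕ × ℕ)}
    {qs : List ℕ} (hd : N ≤ 2 ^ d) (hs : F.ok s = true) (ht : F.ok t = true)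
    (hb : F.run s C.b0 = C.b0 ∧ F.run s C.b1 = C.b2 ∧ F.run s C.b2 = C.b3)
    (hq : ∀ q ∈ qs, q < N)
    (h : ∀ y < N, searchOK F C d s t L qs y = true) {g : Equiv.Perm (Fin N)} (hg : g ∈ F.K)
    (hgs : g * F.val s = F.val t * g) :
    ∃ a ∈ L, (g ⟨C.b0, hC.lt0⟩ : ℕ) = a.1 ∧ (g ⟨C.b1, hC.lt1⟩ : ℕ) = a.2.1 ∧
      (g ⟨C.b2, hC.lt2⟩ : ℕ) = a.2.2.1 ∧ (g ⟨C.b3, hC.lt3⟩ : ℕ) = a.2.2.2 := by
  obtain ⟨r, rfl⟩ := hC.exists_elt hF hg
  obtain ⟨i0, i1, i2, i3⟩ := hC.images hF r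
  obtain ⟨⟨y0, h0⟩, ⟨y1, h1⟩, ⟨y2, h2⟩, ⟨y3, h3⟩⟩ := r
  set g := C.elt F (⟨y0, h0⟩, ⟨y1, h1⟩, ⟨y2, h2⟩, ⟨y3, h3⟩) with hgdef
  simp only at i0 i1 i2 i3
  obtain ⟨o0, -⟩ := levOK_spec hF (hC.lev0 _ y0.2) h0 hC.lt0
  obtain ⟨o1, -⟩ := levOK_spec hF (hC.lev1 _ y1.2) h1 hC.lt1
  obtain ⟨o2, -⟩ := levOK_spec hF (hC.lev2 _ y2.2) h2 hC.lt2
  obtain ⟨o3, -⟩ := levOK_spec hF (hC.lev3 _ y3.2) h3 hC.lt3
  set c0 := C.t0.get 160 y0
  set c1 := C.t1.get 160 y1
  set c2 := C.t2.get 160 y2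
  set c3 := C.t3.get 160 y3
  have hcomm : ∀ i : Fin N, g (F.val s i) = F.val t (g i) := fun i => by
    simpa using congrArg (fun p : Equiv.Perm (Fin N) => p i) hgs
  have st : ∀ (p q : ℕ) (hp : p < N) (hqN : q < N), F.run s p = q →
      (g ⟨q, hqN⟩ : ℕ) = F.run t (g ⟨p, hp⟩) := by
    intro p q hp hqN e
    have := congrArg Fin.val (hcomm ⟨p, hp⟩)
    rw [Frame.val_apply hF ht] at this
    rw [← this]
    congr 2
    exact (Fin.ext ((Frame.val_apply hF hs ⟨p, hp⟩).trans e)).symm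
  have j0 : (g ⟨C.b0, hC.lt0⟩ : ℕ) = y0 := congrArg Fin.val i0
  have j1 : (g ⟨C.b1, hC.lt1⟩ : ℕ) = F.run c0 y1 := by rw [i1, Frame.val_apply hF o0]
  have j2 : (g ⟨C.b2, hC.lt2⟩ : ℕ) = F.run c0 (F.run c1 y2) := by
    rw [i2, Frame.val_apply hF o0, Frame.val_apply hF o1]
  have j3 : (g ⟨C.b3, hC.lt3⟩ : ℕ) = F.run c0 (F.run c1 (F.run c2 y3)) := by
    rw [i3, Frame.val_apply hF o0, Frame.val_apply hF o1, Frame.val_apply hF o2]
  have e0 := st C.b0 C.b0 hC.lt0 hC.lt0 hb.1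
  rw [j0] at e0
  have e2 := st C.b1 C.b2 hC.lt1 hC.lt2 hb.2.1
  rw [j1, j2] at e2
  have e3 := st C.b2 C.b3 hC.lt2 hC.lt3 hb.2.2
  rw [j2, j3] at e3
  -- walk through the search
  have hk := h y0 y0.2
  rw [searchOK, Bool.or_eq_true] at hk
  rcases hk with hk | hk
  · exact absurd (Nat.eq_of_beq_eq_true hk) h0
  rw [Bool.or_eq_true, Bool.not_eq_true'] at hk
  rcases hk with hk | hk
  · rw [← e0, show Nat.beq (y0 : ℕ) y0 = true from Nat.beq_refl _] at hk
    exact Bool.noConfusion hk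
  have hk1 := allB_spec_zero hk hd y1.2
  rw [Bool.or_eq_true] at hk1
  rcases hk1 with hk1 | hk1
  · exact absurd (Nat.le_of_ble_eq_true hk1) (not_le.2 y1.2)
  rw [step1, Bool.or_eq_true] at hk1
  rcases hk1 with hk1 | hk1
  · exact absurd (Nat.eq_of_beq_eq_true hk1) h1
  rw [step2, Bool.and_eq_true, Bool.and_eq_true] at hk1
  obtain ⟨l2, q2, hk2⟩ := hk1
  have l2' := Nat.le_of_ble_eq_true l2
  have y2e : (F.run (revF 96 c1 1) (F.run (revF 96 c0 1) (F.run t (F.run c0 y1))) : ℕ) = y2 := by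
    have q := Nat.eq_of_beq_eq_true q2
    conv_rhs at q => rw [← e2]
    exact Frame.run_inj hF o1 l2' y2.2 (Frame.run_inj hF o0 (Frame.run_lt hF o1 l2')
      (Frame.run_lt hF o1 y2.2) q)
  rw [y2e, Bool.or_eq_true] at hk2
  rcases hk2 with hk2 | hk2
  · exact absurd (Nat.eq_of_beq_eq_true hk2) h2
  rw [step3, Bool.and_eq_true, Bool.and_eq_true] at hk2
  obtain ⟨l3, q3, hk3⟩ := hk2
  rw [← e2, ← e3] at l3 q3 hk3
  have y3e : (F.run (revF 96 c2 1) (F.run (revF 96 c1 1)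
      (F.run (revF 96 c0 1) (F.run c0 (F.run c1 (F.run c2 y3))))) : ℕ) = y3 := by
    have l3' := Nat.le_of_ble_eq_true l3
    refine Frame.run_inj hF o2 l3' y3.2 (Frame.run_inj hF o1 (Frame.run_lt hF o2 l3')
      (Frame.run_lt hF o2 y3.2) (Frame.run_inj hF o0
      (Frame.run_lt hF o1 (Frame.run_lt hF o2 l3'))
      (Frame.run_lt hF o1 (Frame.run_lt hF o2 y3.2)) (Nat.eq_of_beq_eq_true q3)))
  rw [y3e, Bool.or_eq_true] at hk3
  rcases hk3 with hk3 | hk3
  · exact absurd (Nat.eq_of_beq_eq_true hk3) h3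
  rw [leafOK, Bool.or_eq_true] at hk3
  rcases hk3 with hk3 | hk3
  · obtain ⟨a, ha, hk3⟩ := List.any_eq_true.1 hk3
    simp only [sameQ, Bool.and_eq_true] at hk3
    obtain ⟨u0, u1, u2, u3⟩ := hk3
    exact ⟨a, ha, j0.trans (Nat.eq_of_beq_eq_true u0).symm, j1.trans (Nat.eq_of_beq_eq_true u1).symm,
      j2.trans (Nat.eq_of_beq_eq_true u2).symm, j3.trans (Nat.eq_of_beq_eq_true u3).symm⟩
  · exfalso
    obtain ⟨q, hqm, hk3⟩ := List.any_eq_true.1 hk3
    have hqN := hq q hqm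
    have hsq := Frame.run_lt hF hs hqN
    have hg4 : ∀ i : Fin N, (g i : ℕ) = F.run c0 (F.run c1 (F.run c2 (F.run c3 i))) := fun i => by
      rw [hgdef]
      simp only [Chain.elt, Equiv.Perm.mul_apply]
      rw [Frame.val_apply hF o0, Frame.val_apply hF o1, Frame.val_apply hF o2,
        Frame.val_apply hF o3]
    have := st q (F.run s q) hqN hsq rfl
    rw [hg4, hg4] at this
    simp only at this
    rw [this, Bool.not_eq_true'] at hk3
    exact Bool.noConfusion ((Nat.beq_refl _).symm.trans hk3)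

end Search

end Cfsg.Agent.SporOut
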