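import Cfsg.Agent.SporOut.Sift

/-!
Certified search for the solutions of `g s = t g` when the base is the start of a cycle of `s`:
a solution is determined by the image of the first point.
-/

set_option autoImplicit false

namespace Cfsg.Agent.SporOut

open Cfsg.Agent.CosetCert

variable {N : ℕ}

section Search

variable (F : Frame N) (C : Chain)

/-- Second level of the search along a cycle. -/
noncomputable def cyc1 (s t : ℕ) (L : List (ℕ × ℕ × ℕ × ℕ)) (qs : List ℕ) (c0 y0 j1 y1 : ℕ) : Bool :=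
  Nat.blt y1 N && (Nat.beq (F.run c0 y1) j1 &&
    (Nat.beq (C.t1.get 160 y1) 0 || step2 F C s t L qs c0 (C.t1.get 160 y1) y0 j1 (F.run t j1)
      (F.run (revF 96 (C.t1.get 160 y1) 1) (F.run (revF 96 c0 1) (F.run t j1)))))

/-- The search over one image of the first point. -/
noncomputable def cycOK (s t : ℕ) (L : List (ℕ × ℕ × ℕ × ℕ)) (qs : List ℕ) (y0 : ℕ) : Bool :=
  Nat.beq (C.t0.get 160 y0) 0 || cyc1 F C s t L qs (C.t0.get 160 y0) y0 (F.run t y0)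
    (F.run (revF 96 (C.t0.get 160 y0) 1) (F.run t y0))

variable {F C}

/-- All solutions of `g s = t g` are in the list. -/
theorem cyc_sound (hC : C.Valid F) (hF : F.Valid) {s t : ℕ} {L : List (ℕ × ℕ × ℕ × ℕ)}
    {qs : List ℕ} (hs : F.ok s = true) (ht : F.ok t = true)
    (hb : F.run s C.b0 = C.b1 ∧ F.run s C.b1 = C.b2 ∧ F.run s C.b2 = C.b3)
    (hq : ∀ q ∈ qs, q < N)
    (h : ∀ y < N, cycOK F C s t L qs y = true) {g : Equiv.Perm (Fin N)} (hg : g ∈ F.K)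
    (hgs : g * F.val s = F.val t * g) :
    ∃ a ∈ L, (g ⟨C.b0, hC.lt0⟩ : ℕ) = a.1 ∧ (g ⟨C.b1, hC.lt1⟩ : ℕ) = a.2.1 ∧
      (g ⟨C.b2, hC.lt2⟩ : ℕ) = a.2.2.1 ∧ (g ⟨C.b3, hC.lt3⟩ : ℕ) = a.2.2.2 := by
  obtain ⟨r, rfl⟩ := hC.exists_elt hF hg
  obtain ⟨i0, i1, i2, i3⟩ := hC.images hF r
  obtain ⟨⟨y0, h0⟩, ⟨y1, h1⟩, ⟨y2, h2⟩, ⟨y3, h3⟩⟩ := r
  set g := C.elt F (⟨y0, h0⟩, ⟨y1, h1⟩, ⟨y2, h2⟩, ⟨y3, h3⟩) with hgdef
  simp only at i0 i1 i2 i3
  obtain ⟨o0, -⟩ := levOK_spec hF (hC.lev0 _ y0.2) h0 hC.lt0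
  obtain ⟨o1, -⟩ := levOK_spec hF (hC.lev1 _ y1.2) h1 hC.lt1
  obtain ⟨o2, -⟩ := levOK_spec hF (hC.lev2 _ y2.2) h2 hC.lt2
  obtain ⟨o3, -⟩ := levOK_spec hF (hC.lev3 _ y3.2) h3 hC.lt3
  set c0 := C.t0.get 160 y0
  set c1 := C.t1.get 160 y1
  set c2 := C.t2.get 160 y2
  set c3 := C.t3.get 160 y3
  have hcomm : ∀ i : Fin N, g (F.val s i) = F.val t (g i) := fun i => by
    simpa using congrArg (fun p : Equiv.Perm (Fin N) => p i) hgs
  have st : ∀ (p q : ℕ) (hp : p < N) (hqN : q < N), F.run s p = q →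
      (g ⟨q, hqN⟩ : ℕ) = F.run t (g ⟨p, hp⟩) := by
    intro p q hp hqN e
    have := congrArg Fin.val (hcomm ⟨p, hp⟩)
    rw [Frame.val_apply hF ht] at this
    rw [← this]
    congr 2
    exact (Fin.ext ((Frame.val_apply hF hs ⟨p, hp⟩).trans e)).symm
  have j0 : (g ⟨C.b0, hC.lt0⟩ : ℕ) = y0 := congrArg Fin.val i0
  have j1 : (g ⟨C.b1, hC.lt1⟩ : ℕ) = F.run c0 y1 := by rw [i1, Frame.val_apply hF o0]
  have j2 : (g ⟨C.b2, hC.lt2⟩ : ℕ) = F.run c0 (F.run c1 y2) := by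
    rw [i2, Frame.val_apply hF o0, Frame.val_apply hF o1]
  have j3 : (g ⟨C.b3, hC.lt3⟩ : ℕ) = F.run c0 (F.run c1 (F.run c2 y3)) := by
    rw [i3, Frame.val_apply hF o0, Frame.val_apply hF o1, Frame.val_apply hF o2]
  have e1 := st C.b0 C.b1 hC.lt0 hC.lt1 hb.1
  rw [j0, j1] at e1
  have e2 := st C.b1 C.b2 hC.lt1 hC.lt2 hb.2.1
  rw [j1, j2] at e2
  have e3 := st C.b2 C.b3 hC.lt2 hC.lt3 hb.2.2
  rw [j2, j3] at e3
  have hk := h y0 y0.2
  rw [cycOK, Bool.or_eq_true] at hk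
  rcases hk with hk | hk
  · exact absurd (Nat.eq_of_beq_eq_true hk) h0
  rw [cyc1, Bool.and_eq_true, Bool.and_eq_true] at hk
  obtain ⟨l1, q1, hk1⟩ := hk
  rw [← e1] at l1 q1 hk1
  have l1' := Nat.le_of_ble_eq_true l1
  have y1e : (F.run (revF 96 c0 1) (F.run c0 y1) : ℕ) = y1 :=
    Frame.run_inj hF o0 l1' y1.2 (Nat.eq_of_beq_eq_true q1)
  rw [y1e, Bool.or_eq_true] at hk1
  rcases hk1 with hk1 | hk1
  · exact absurd (Nat.eq_of_beq_eq_true hk1) h1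
  rw [step2, Bool.and_eq_true, Bool.and_eq_true] at hk1
  obtain ⟨l2, q2, hk2⟩ := hk1
  rw [← e2] at l2 q2 hk2
  have l2' := Nat.le_of_ble_eq_true l2
  have y2e : (F.run (revF 96 c1 1) (F.run (revF 96 c0 1) (F.run c0 (F.run c1 y2))) : ℕ) = y2 :=
    Frame.run_inj hF o1 l2' y2.2 (Frame.run_inj hF o0 (Frame.run_lt hF o1 l2')
      (Frame.run_lt hF o1 y2.2) (Nat.eq_of_beq_eq_true q2))
  rw [y2e, Bool.or_eq_true] at hk2
  rcases hk2 with hk2 | hk2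
  · exact absurd (Nat.eq_of_beq_eq_true hk2) h2
  rw [step3, Bool.and_eq_true, Bool.and_eq_true] at hk2
  obtain ⟨l3, q3, hk3⟩ := hk2
  rw [← e3] at l3 q3 hk3
  have y3e : (F.run (revF 96 c2 1) (F.run (revF 96 c1 1)
      (F.run (revF 96 c0 1) (F.run c0 (F.run c1 (F.run c2 y3))))) : ℕ) = y3 := by
    have l3' := Nat.le_of_ble_eq_true l3
    refine Frame.run_inj hF o2 l3' y3.2 (Frame.run_inj hF o1 (Frame.run_lt hF o2 l3')
      (Frame.run_lt hF o2 y3.2) (Frame.run_inj hF o0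
      (Frame.run_lt hF o1 (Frame.run_lt hF o2 l3'))
      (Frame.run_lt hF o1 (Frame.run_lt hF o2 y3.2)) (Nat.eq_of_beq_eq_true q3)))
  rw [y3e, Bool.or_eq_true] at hk3
  rcases hk3 with hk3 | hk3
  · exact absurd (Nat.eq_of_beq_eq_true hk3) h3
  rw [leafOK, Bool.or_eq_true] at hk3
  rcases hk3 with hk3 | hk3
  · obtain ⟨a, ha, hk3⟩ := List.any_eq_true.1 hk3
    simp only [sameQ, Bool.and_eq_true] at hk3
    obtain ⟨u0, u1, u2, u3⟩ := hk3
    exact ⟨a, ha, j0.trans (Nat.eq_of_beq_eq_true u0).symm, j1.trans (Nat.eq_of_beq_eq_true u1).symm,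
      j2.trans (Nat.eq_of_beq_eq_true u2).symm, j3.trans (Nat.eq_of_beq_eq_true u3).symm⟩
  · exfalso
    obtain ⟨q, hqm, hk3⟩ := List.any_eq_true.1 hk3
    have hqN := hq q hqm
    have hsq := Frame.run_lt hF hs hqN
    have hg4 : ∀ i : Fin N, (g i : ℕ) = F.run c0 (F.run c1 (F.run c2 (F.run c3 i))) := fun i => by
      rw [hgdef]
      simp only [Chain.elt, Equiv.Perm.mul_apply]
      rw [Frame.val_apply hF o0, Frame.val_apply hF o1, Frame.val_apply hF o2,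
        Frame.val_apply hF o3]
    have := st q (F.run s q) hqN hsq rfl
    rw [hg4, hg4] at this
    simp only at this
    rw [this, Bool.not_eq_true'] at hk3
    exact Bool.noConfusion ((Nat.beq_refl _).symm.trans hk3)

end Search

end Cfsg.Agent.SporOut
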